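import Cfsg.Agent.Lib.Block.KBalance
import Cfsg.Agent.Lib.Grp.CocyclicGeneration
import Cfsg.Agent.S0205
import Cfsg.Agent.S0217

/-!
# The balanced functor of a strongly closed elementary subgroup (for S1169)

If every subgroup of `A` of order `p ^ r` meets the kernel of the action on every component of every
`C(a)/O(C a)`, then `G` is `r`-balanced with respect to `A`.  For solvable cores the `r`-balanced functor is a
signalizer functor: a solvable group generated by a balanced family has its fixed points generated by those of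
the family, by induction along the derived series.
-/

set_option autoImplicit false
set_option linter.unusedSectionVars false
set_option linter.style.haveILetI false

namespace Cfsg.Agent.Invol.StrongClosed

open Subgroup Cfsg.Agent.Grp Cfsg.Agent.Block.KBalance
open scoped commutatorElement Pointwise

universe u

variable {G : Type u} [Group G] [Finite G] {p : ℕ} [hp : Fact p.Prime]

/-- Balance from kernels on the components. -/
theorem kBalancedWrt_of_kernels {k : ℕ} (hk : k ≠ 0) {A : Subgroup G} (hA : Cfsg.IsElementaryAbelian p A)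
    (hker : ∀ a : G, a ∈ A → a ≠ 1 →
      ∀ K : Subgroup (↥(centralizer ({a} : Set G)) ⧸ Cfsg.pPrimeCore p ↥(centralizer ({a} : Set G))),
        Cfsg.IsComponent K → ∀ B : Subgroup G, B ≤ A → Nat.card B = p ^ k →
          ∃ b : ↥(centralizer ({a} : Set G)), (b : G) ∈ B ∧ (b : G) ≠ 1 ∧
            ∀ x ∈ K, (QuotientGroup.mk b) * x = x * (QuotientGroup.mk b)) :
    Cfsg.IsKBalancedWrt p k A := by
  intro B hB _ hBc a ha ha1 g hg
  obtain ⟨B0, hB0, hB0c⟩ := exists_card_eq hA hB hBc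
  have hB0A := hB0.trans hB
  obtain ⟨hgΔ, hga⟩ := mem_inf.mp hg
  haveI : (Cfsg.pPrimeCore p ↥(centralizer ({a} : Set G))).Normal := pPrimeCore_isNormal
  set C := centralizer ({a} : Set G) with hC
  have hAC : A ≤ C := fun b hb => mem_centralizer_singleton_iff.mpr (elemAb_comm hA b hb a ha)
  set π := QuotientGroup.mk' (Cfsg.pPrimeCore p ↥C) with hπ
  have himg := image_elemAb (a := a) (elemAb_mono hA hB0A)
  set Bq := (B0.subgroupOf C).map π
  have hBq1 : Bq ≠ ⊥ := ne_bot_of_card hk ((himg.2 (hB0A.trans hAC)).trans hB0c).ge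
  have hbot : ((Cfsg.signalizerDelta p B0 ⊓ C).subgroupOf C).map π = ⊥ := by
    refine eq_bot_of_component_condition pPrimeCore_quotient_bot Bq _ hBq1 himg.1.2 (elemAb_comm himg.1) ?_ ?_
    · rintro _ ⟨b, hb, rfl⟩ hb1
      exact image_le_core (elemAb_mono hA hB0A) (mem_subgroupOf.mp hb) (fun h => hb1 (by
        rw [show b = 1 from Subtype.ext h, map_one]))
    · intro L hL _ _ hnc _
      exfalso
      obtain ⟨b, hb, hb1, hfix⟩ := hker a ha ha1 L hL B0 hB0A hB0c
      refine hnc (π b) ⟨b, mem_subgroupOf.mpr hb, rfl⟩ (fun e => ?_) hfix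
      have h1 : orderOf b ∣ Nat.card (Cfsg.pPrimeCore p ↥C) :=
        Subgroup.orderOf_dvd_natCard _ ((QuotientGroup.eq_one_iff b).mp e)
      exact hb1 (congrArg Subtype.val (pow_eq_one_coprime (p := p) (k := 1)
        (by rw [pow_one]; exact Subtype.ext (hA.2 _ (hB0A hb))) (pPrimeCore_coprime.coprime_dvd_left h1)))
  have hmem : π ⟨g, hga⟩ ∈ (⊥ : Subgroup _) := hbot ▸ ⟨_, mem_subgroupOf.mpr ⟨delta_anti hB0 hgΔ, hga⟩, rfl⟩
  exact ⟨⟨g, hga⟩, (QuotientGroup.eq_one_iff _).mp (mem_bot.mp hmem), rfl⟩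

/-- A group generated by a set whose commutators lie in a normalised subgroup. -/
theorem commutator_le_of_generators {K M : Subgroup G} {s : Set G} (hKs : K ≤ closure s) (hs : s ⊆ K)
    (hKM : K ≤ normalizer (M : Set G)) (h : ∀ x ∈ s, ∀ y ∈ s, ⁅x, y⁆ ∈ M) : ⁅K, K⁆ ≤ M := by
  rw [commutator_le]
  intro x hx y hy
  have inner : ∀ x ∈ s, ∀ y ∈ closure s, ⁅x, y⁆ ∈ M := by
    intro x hx y hy
    refine closure_induction (p := fun y _ => ⁅x, y⁆ ∈ M) (fun y hy => h x hx y hy) ?_ ?_ ?_ hy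
    · rw [commutatorElement_one_right]; exact one_mem _
    · intro u v hu _ h1 h2
      rw [commutatorElement_mul_right_eq_mul_conj]
      have huN : u ∈ normalizer (M : Set G) := (closure_le _).2 (hs.trans hKM) hu
      exact mul_mem (mul_mem h1 (mem_conj_normalizer huN h2)) (one_mem _) |> fun h => by simpa [mul_assoc] using h
    · intro u hu h1
      have huN : u ∈ normalizer (M : Set G) := (closure_le _).2 (hs.trans hKM) hu
      have e : ⁅x, u⁻¹⁆ = u⁻¹ * ⁅x, u⁆⁻¹ * u := by simp only [commutatorElement_def]; group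
      rw [e]
      exact mem_conj_normalizer' huN (inv_mem h1)
  refine closure_induction (p := fun x _ => ⁅x, y⁆ ∈ M) (fun x hx => inner x hx y (hKs hy)) ?_ ?_ ?_ (hKs hx)
  · rw [commutatorElement_one_left]; exact one_mem _
  · intro u v hu _ h1 h2
    rw [commutatorElement_mul_left_eq_conj_mul]
    exact mul_mem (mem_conj_normalizer ((closure_le _).2 (hs.trans hKM) hu) h2) h1
  · intro u hu h1
    have e : ⁅u⁻¹, y⁆ = u⁻¹ * ⁅u, y⁆⁻¹ * u := by simp only [commutatorElement_def]; group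
    rw [e]
    exact mem_conj_normalizer' ((closure_le _).2 (hs.trans hKM) hu) (inv_mem h1)

/-- The sum over the orbit of an operator of order `p` kills the commutators. -/
theorem fixed_inf_commutator_le {b : G} (hb : b ^ p = 1) {X : Subgroup G} (hbX : b ∈ normalizer (X : Set G))
    (hXp : ¬ p ∣ Nat.card X) :
    (⁅X, zpowers b⁆ ⊔ ⁅X, X⁆) ⊓ centralizer ({b} : Set G) ≤ ⁅X, X⁆ := by
  classical
  have hpow : ∀ j : ℕ, ∀ x ∈ X, b ^ j * x * (b ^ j)⁻¹ ∈ X := fun j x hx =>
    mem_conj_normalizer (pow_mem hbX j) hx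
  let c : ℕ → (↥X →* ↥X) := fun j =>
    { toFun := fun x => ⟨b ^ j * x * (b ^ j)⁻¹, hpow j x x.2⟩
      map_one' := Subtype.ext (by simp)
      map_mul' := fun x y => Subtype.ext (by simp [mul_assoc]) }
  let ν : ↥X →* Abelianization ↥X := ∏ j ∈ Finset.range p, Abelianization.of.comp (c j)
  have hν : ∀ x : ↥X, ν x = ∏ j ∈ Finset.range p, Abelianization.of (c j x) := fun x =>
    MonoidHom.finsetProd_apply _ _ x
  have hshift : ∀ (i : ℕ) (x : ↥X), ν (c i x) = ν x := by
    intro i x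
    induction i with
    | zero => rw [show c 0 x = x from Subtype.ext (by simp [c])]
    | succ i ih =>
      rw [← ih, hν, hν]
      have e : ∀ j, c j (c (i + 1) x) = c (j + 1) (c i x) := fun j => Subtype.ext (by
        simp only [c, MonoidHom.coe_mk, OneHom.coe_mk, pow_succ']
        group)
      simp only [e]
      set y := c i x
      have h1 := Finset.prod_range_succ' (fun j => Abelianization.of (c j y)) p
      rw [Finset.prod_range_succ] at h1
      have h2 : c p y = c 0 y := Subtype.ext (by simp [c, hb])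
      rw [h2] at h1
      exact (mul_right_cancel h1).symm
  have hker : ⁅X, zpowers b⁆ ⊔ ⁅X, X⁆ ≤ ν.ker.map X.subtype := by
    refine sup_le ?_ ?_
    · rw [commutator_le]
      intro x hx e he
      obtain ⟨i, rfl⟩ := ((orderOf_pos_iff.1 (orderOf_pos b)).mem_zpowers_iff_mem_range_orderOf).1 he
        |> fun h => (Finset.mem_image.1 h).imp fun _ h => h.2.symm
      refine ⟨⟨x, hx⟩ * (c i ⟨x, hx⟩)⁻¹, ?_, ?_⟩
      · show ν _ = 1
        rw [map_mul, map_inv, hshift, mul_inv_cancel]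
      · show x * (b ^ i * x * (b ^ i)⁻¹)⁻¹ = _
        rw [commutatorElement_def]
        group
    · rw [commutator_le]
      intro x hx y hy
      refine ⟨⁅(⟨x, hx⟩ : ↥X), ⟨y, hy⟩⁆, ?_, rfl⟩
      show ν _ = 1
      rw [map_commutatorElement, commutatorElement_eq_one_iff_mul_comm]
      exact mul_comm _ _
  rintro m ⟨hm, hmc⟩
  obtain ⟨y, hy, rfl⟩ := hker hm
  have hfix : ∀ j, c j y = y := fun j => Subtype.ext (by
    show b ^ j * (y : G) * (b ^ j)⁻¹ = y
    rw [(show Commute b (y : G) from (mem_centralizer_singleton_iff.1 hmc).symm).pow_left j |>.eq,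
      mul_inv_cancel_right])
  have h1 : Abelianization.of y ^ p = 1 := by
    rw [← show ν y = 1 from hy, hν]
    simp [hfix]
  have h2 : Abelianization.of y = 1 := by
    refine orderOf_eq_one_iff.1 (Nat.eq_one_of_dvd_coprimes (hp.out.coprime_iff_not_dvd.2 hXp)
      (orderOf_dvd_of_pow_eq_one h1) ((orderOf_map_dvd _ y).trans (orderOf_dvd_natCard y)))
  have h3 : y ∈ commutator ↥X := (QuotientGroup.eq_one_iff y).1 h2
  rw [commutator_def] at h3
  have h4 := mem_map_of_mem X.subtype h3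
  rwa [map_commutator, ← MonoidHom.range_eq_map, range_subtype] at h4

section Family

variable {A : Subgroup G} {k : ℕ}

theorem card_hyperplane (hA : Cfsg.IsElementaryAbelian p A) {D : Subgroup G} (hD : D ≤ A) (hi : D.relIndex A = p)
    {m : ℕ} (hm : p ^ (m + 1) ≤ Nat.card A) : p ^ m ≤ Nat.card D := by
  have h1 := card_mul_relIndex hD
  rw [hi] at h1
  rw [← h1, pow_succ] at hm
  exact Nat.le_of_mul_le_mul_right hm hp.out.pos

/-- A balanced family: fixed points of a solvable group generated by the family. -/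
theorem inf_centralizer_le_family (hA : Cfsg.IsElementaryAbelian p A) (hAk : p ^ (k + 2) ≤ Nat.card A)
    (Y : Subgroup G → Subgroup G) (hcent : ∀ B ≤ A, p ^ k ≤ Nat.card B → Y B ≤ centralizer (B : Set G))
    (hinv : ∀ B ≤ A, p ^ k ≤ Nat.card B → A ≤ normalizer (Y B : Set G))
    (hbal : ∀ B ≤ A, p ^ k ≤ Nat.card B → ∀ D ≤ A, p ^ k ≤ Nat.card D →
      Y B ⊓ centralizer (D : Set G) ≤ Y D) {b : G} (hb : b ∈ A) :
    ∀ (n : ℕ) (X : Subgroup G), Nat.card X = n → A ≤ normalizer (X : Set G) → Group.IsSolvable X →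
      ¬ p ∣ Nat.card X →
      X ≤ ⨆ B : {B : Subgroup G // B ≤ A ∧ p ^ k ≤ Nat.card B}, X ⊓ Y (B : Subgroup G) →
      X ⊓ centralizer ({b} : Set G) ≤
        ⨆ B : {B : Subgroup G // B ≤ A ∧ p ^ k ≤ Nat.card B}, Y (B : Subgroup G) ⊓ centralizer ({b} : Set G) := by
  have hanti : ∀ B D : Subgroup G, B ≤ A → p ^ k ≤ Nat.card D → D ≤ B → Y B ≤ Y D := by
    intro B D hB hD hDB y hy
    have hBk : p ^ k ≤ Nat.card B := hD.trans (card_le_of_le hDB)
    exact hbal B hB hBk D (hDB.trans hB) hD ⟨hy, centralizer_le hDB (hcent B hB hBk hy)⟩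
  intro n
  induction n using Nat.strong_induction_on with
  | _ n ih =>
  intro X hn hAX hXs hXp hgen
  by_cases hX : X = ⊥
  · rw [hX, bot_inf_eq]; exact bot_le
  haveI := hXs
  set X' := ⁅X, X⁆ with hX'
  have hlt : X' < X := by
    refine lt_of_le_of_ne (commutator_le_self X) fun e => ?_
    exact absurd e (commutator_lt_self_of_solvable hXs hX).ne
  have hAX' : A ≤ normalizer (X' : Set G) := by
    intro a ha
    rw [mem_normalizer_iff_smul, hX', ← map_conj_eq_smul, map_commutator, map_conj_eq_smul,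
      mem_normalizer_iff_smul.mp (hAX ha)]
  have hA1 : A ≠ ⊥ := ne_bot_of_card (Nat.succ_ne_zero _) hAk
  -- the intersections with hyperplane members generate
  set s : Set G := {x | x ∈ X ∧ ∃ D ≤ A, D.relIndex A = p ∧ x ∈ Y D} with hs
  have hsX : s ⊆ X := fun x hx => hx.1
  have hcl : X ≤ closure s := by
    refine hgen.trans (iSup_le fun B => ?_)
    refine le_of_hyperplanes hA hA1 _ (fun h => hXp (h.trans (card_dvd_of_le inf_le_left)))
      (le_normalizer_inf' hAX (hinv _ B.2.1 B.2.2)) fun D hD hi => ?_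
    rintro x ⟨hx, hxD⟩
    exact subset_closure ⟨hx.1, D, hD, hi,
      hbal _ B.2.1 B.2.2 D hD ((Nat.pow_le_pow_right hp.out.pos (Nat.le_succ k)).trans
        (card_hyperplane hA hD hi hAk)) ⟨hx.2, hxD⟩⟩
  have hinter : ∀ D H : Subgroup G, D ≤ A → D.relIndex A = p → H ≤ A → H.relIndex A = p →
      p ^ k ≤ Nat.card ↥(D ⊓ H) := by
    intro D H hD hDi hH hHi
    have h1 := relIndex_inf_le (H := D) (K := H) (L := A)
    rw [hDi, hHi] at h1
    have h2 := card_mul_relIndex (inf_le_left.trans hD : D ⊓ H ≤ A)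
    have h3 : p ^ (k + 2) ≤ Nat.card ↥(D ⊓ H) * (p * p) :=
      hAk.trans (h2 ▸ Nat.mul_le_mul_left _ h1)
    rw [pow_succ, pow_succ, mul_assoc] at h3
    exact Nat.le_of_mul_le_mul_right h3 (Nat.mul_pos hp.out.pos hp.out.pos)
  -- the derived subgroup is generated by the family
  set M1 := ⨆ B : {B : Subgroup G // B ≤ A ∧ p ^ k ≤ Nat.card B}, X' ⊓ Y (B : Subgroup G) with hM1
  have hmem : ∀ D H : Subgroup G, D ≤ A → D.relIndex A = p → H ≤ A → H.relIndex A = p →
      ∀ y : G, y ∈ X' → y ∈ Y (D ⊓ H) → y ∈ M1 := fun D H hD hDi hH hHi y h1 h2 =>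
    le_iSup (fun B : {B : Subgroup G // B ≤ A ∧ p ^ k ≤ Nat.card B} => X' ⊓ Y (B : Subgroup G))
      ⟨D ⊓ H, inf_le_left.trans hD, hinter D H hD hDi hH hHi⟩ ⟨h1, h2⟩
  have hM1n : X ≤ normalizer (M1 : Set G) := by
    refine hcl.trans ((closure_le _).2 ?_)
    rintro x ⟨hx, D, hD, hDi, hxY⟩
    rw [SetLike.mem_coe, mem_normalizer_iff_smul]
    suffices h : ∀ y, y ∈ X → y ∈ Y D → MulAut.conj y • M1 ≤ M1 by
      refine le_antisymm (h x hx hxY) ?_
      have := pointwise_smul_le_pointwise_smul_iff (a := MulAut.conj x) |>.mpr (h x⁻¹ (inv_mem hx) (inv_mem hxY))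
      rwa [conj_smul_conj_smul, mul_inv_cancel, map_one, one_smul] at this
    intro y hy hyY
    rw [← map_conj_eq_smul, map_le_iff_le_comap, hM1]
    refine iSup_le fun B => ?_
    refine le_of_hyperplanes hA hA1 _ (fun h => hXp (h.trans (card_dvd_of_le (inf_le_left.trans hlt.le))))
      (le_normalizer_inf' hAX' (hinv _ B.2.1 B.2.2)) fun H hH hHi => ?_
    rintro w ⟨⟨hwX, hwY⟩, hwC⟩
    have hwH : w ∈ Y H := hbal _ B.2.1 B.2.2 H hH ((Nat.pow_le_pow_right hp.out.pos (Nat.le_succ k)).trans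
      (card_hyperplane hA hH hHi hAk)) ⟨hwY, hwC⟩
    have hk' := hinter D H hD hDi hH hHi
    refine hmem D H hD hDi hH hHi _ ?_ ?_
    · exact mem_conj_normalizer ((mem_normalizer_iff_smul.2 (by
        rw [hX', ← map_conj_eq_smul, map_commutator, map_conj_eq_smul,
          mem_normalizer_iff_smul.mp (le_normalizer hy)]))) hwX
    · have h1 := hanti D _ hD hk' inf_le_left hyY
      have h2 := hanti H _ hH hk' inf_le_right hwH
      exact mul_mem (mul_mem h1 h2) (inv_mem h1)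
  have hX'gen : X' ≤ M1 := by
    refine commutator_le_of_generators hcl hsX hM1n ?_
    rintro x ⟨hx, D, hD, hDi, hxY⟩ y ⟨hy, H, hH, hHi, hyY⟩
    have hk' := hinter D H hD hDi hH hHi
    refine hmem D H hD hDi hH hHi _ (commutator_mem_commutator hx hy) ?_
    have h1 := hanti D _ hD hk' inf_le_left hxY
    have h2 := hanti H _ hH hk' inf_le_right hyY
    rw [commutatorElement_def]
    exact mul_mem (mul_mem (mul_mem h1 h2) (inv_mem h1)) (inv_mem h2)
  have hlt' : Nat.card X' < n := hn ▸ lt_of_le_of_ne (card_le_of_le hlt.le) fun e =>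
    hlt.ne (eq_of_le_of_card_ge hlt.le e.ge)
  set T := ⨆ B : {B : Subgroup G // B ≤ A ∧ p ^ k ≤ Nat.card B}, Y (B : Subgroup G) ⊓ centralizer ({b} : Set G)
    with hT
  have hrec : X' ⊓ centralizer ({b} : Set G) ≤ T :=
    ih _ hlt' X' rfl hAX' (isSolvable_of_le hlt.le hXs)
      (fun h => hXp (h.trans (card_dvd_of_le hlt.le))) hX'gen
  -- decomposition
  set Bz := zpowers b
  have hBA : Bz ≤ A := zpowers_le.2 hb
  set U := ⁅X, Bz⁆ ⊔ X'
  have hU : U ≤ X := sup_le (commutator_le_left_of_le_normalizer (hBA.trans hAX)) hlt.le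
  have hXU : X ≤ normalizer (U : Set G) :=
    le_normalizer_iff_commutator_le_left.2 ((commutator_mono hU le_rfl).trans le_sup_right)
  have hXle : X ≤ U ⊔ (T ⊓ X) := by
    refine hcl.trans ((closure_le _).2 ?_)
    rintro x ⟨hx, D, hD, hDi, hxY⟩
    have hDk : p ^ k ≤ Nat.card D :=
      (Nat.pow_le_pow_right hp.out.pos (Nat.le_succ k)).trans (card_hyperplane hA hD hDi hAk)
    set P := X ⊓ Y D
    have hPp : ¬ p ∣ Nat.card P := fun h => hXp (h.trans (card_dvd_of_le inf_le_left))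
    have hBP : Bz ≤ normalizer (P : Set G) := hBA.trans (le_normalizer_inf' hAX (hinv D hD hDk))
    obtain ⟨m, hm, c, hc, rfl⟩ := exists_commutator_mul_fixed Bz P hBP
      (coprime_elemAb (elemAb_mono hA hBA) hPp) (Or.inr (isSolvable_of_le inf_le_left hXs)) ⟨hx, hxY⟩
    refine mul_mem_sup (mem_sup_left (commutator_mono inf_le_left le_rfl hm)) ⟨?_, hc.1.1⟩
    exact le_iSup (fun B : {B : Subgroup G // B ≤ A ∧ p ^ k ≤ Nat.card B} =>
      Y (B : Subgroup G) ⊓ centralizer ({b} : Set G)) ⟨D, hD, hDk⟩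
      ⟨hc.1.2, by rw [centralizer_singleton_eq_zpowers]; exact hc.2⟩
  rintro x ⟨hxX, hxC⟩
  have hx' := hXle hxX
  rw [← SetLike.mem_coe, coe_mul_of_right_le_normalizer_left _ _ (inf_le_right.trans hXU)] at hx'
  obtain ⟨m, hm, t, ht, rfl⟩ := Set.mem_mul.1 hx'
  have hTC : T ≤ centralizer ({b} : Set G) := iSup_le fun _ => inf_le_right
  have hmC : m ∈ centralizer ({b} : Set G) := by
    simpa using (centralizer ({b} : Set G)).mul_mem hxC ((centralizer ({b} : Set G)).inv_mem (hTC ht.1))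
  have hbp : b ^ p = 1 := hA.2 b hb
  exact mul_mem (hrec ⟨fixed_inf_commutator_le hbp (hAX hb) hXp ⟨hm, hmC⟩, hmC⟩) ht.1

end Family

section Functor

variable {A : Subgroup G} {r : ℕ}

theorem signalizerDelta_le_centralizer (B : Subgroup G) :
    Cfsg.signalizerDelta p B ≤ centralizer (B : Set G) := by
  intro y hy
  refine mem_centralizer_iff.2 fun b hb => ?_
  rcases eq_or_ne b 1 with rfl | hb1
  · simp
  · exact (centralizerPPrimeCore_commute (delta_le_core hb hb1 hy)).symm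

theorem centralizerPPrimeCore_conj_mem {a n y : G} (hy : y ∈ Cfsg.centralizerPPrimeCore p a) :
    n * y * n⁻¹ ∈ Cfsg.centralizerPPrimeCore p (n * a * n⁻¹) := by
  refine le_centralizerPPrimeCore (N := (Cfsg.centralizerPPrimeCore p a).map (MulAut.conj n).toMonoidHom)
    ?_ ?_ (by rw [card_map_of_injective (MulAut.conj n).injective]; exact centralizerPPrimeCore_coprime a)
    ⟨y, hy, rfl⟩
  · rintro _ ⟨w, hw, rfl⟩
    exact ((show Commute w a from centralizerPPrimeCore_commute hw).map (MulAut.conj n).toMonoidHom).eq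
  · rintro c hc _ ⟨w, hw, rfl⟩
    refine ⟨(n⁻¹ * c * n) * w * (n⁻¹ * c * n)⁻¹, centralizerPPrimeCore_conj ?_ hw, by simp [mul_assoc]⟩
    calc n⁻¹ * c * n * a = n⁻¹ * (c * (n * a * n⁻¹)) * n := by group
      _ = n⁻¹ * (n * a * n⁻¹ * c) * n := by rw [hc]
      _ = a * (n⁻¹ * c * n) := by group

theorem theta_le_core (hA : Cfsg.IsElementaryAbelian p A) (hbal : Cfsg.IsKBalancedWrt p r A) {a : G} (ha : a ∈ A)
    (ha1 : a ≠ 1) : Cfsg.kBalancedTheta p r A a ≤ Cfsg.centralizerPPrimeCore p a :=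
  iSup_le fun B => hbal _ B.2.1 B.2.2.1 B.2.2.2 a ha ha1

/-- The functor of a balanced `A`, at the prime two. -/
theorem isSolvableSignalizerFunctor_theta (hr : r ≠ 0) (hA : Cfsg.IsElementaryAbelian 2 A)
    (hAr : 2 ^ (r + 2) ≤ Nat.card A) (hbal : Cfsg.IsKBalancedWrt 2 r A) :
    Cfsg.IsSolvableSignalizerFunctor 2 A (Cfsg.kBalancedTheta 2 r A) := by
  haveI : Fact (Nat.Prime 2) := ⟨Nat.prime_two⟩
  set θ := Cfsg.kBalancedTheta 2 r A with hθ
  have hC : ∀ a : G, θ a ≤ centralizer ({a} : Set G) := fun a => iSup_le fun _ => inf_le_right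
  have hodd : ∀ a ∈ A, a ≠ 1 → ¬ 2 ∣ Nat.card (θ a) := fun a ha ha1 h =>
    Nat.prime_two.coprime_iff_not_dvd.mp (centralizerPPrimeCore_coprime (p := 2) a).symm
      (h.trans (card_dvd_of_le (theta_le_core hA hbal ha ha1)))
  have hsol : ∀ a ∈ A, a ≠ 1 → Group.IsSolvable (θ a) := fun a ha ha1 =>
    Cfsg.Agent.S0205.result (Nat.not_even_iff_odd.1 fun h => hodd a ha ha1 (even_iff_two_dvd.1 h))
  have hinvY : ∀ a ∈ A, ∀ B ≤ A,
      A ≤ normalizer ((Cfsg.signalizerDelta 2 B ⊓ centralizer ({a} : Set G) : Subgroup G) : Set G) := by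
    intro a ha B hB
    refine le_normalizer_inf' (delta_invariant hA hB) ?_
    rw [centralizer_singleton_eq_zpowers]
    exact le_normalizer_centralizer_of_commute fun c hc d hd => elemAb_comm hA c hc d (zpowers_le.2 ha hd)
  have hinv : ∀ a ∈ A, A ≤ normalizer (θ a : Set G) := fun a ha => by
    intro c hc
    rw [mem_normalizer_iff_smul, hθ, Cfsg.kBalancedTheta]
    exact Cfsg.Agent.Grp.Cocyclic.smul_iSup_eq _ _ fun B => mem_normalizer_iff_smul.1 (hinvY a ha _ B.2.1 hc)
  refine ⟨⟨fun a _ _ => hC a, hodd, fun a ha _ => invariant_iff.2 (hinv a ha), ?_⟩, hsol⟩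
  intro a ha ha1 b hb hb1
  have h := inf_centralizer_le_family (p := 2) (k := r) hA hAr
    (fun B => Cfsg.signalizerDelta 2 B ⊓ centralizer ({a} : Set G))
    (fun B _ _ => inf_le_left.trans (signalizerDelta_le_centralizer B))
    (fun B hB _ => hinvY a ha B hB)
    (fun B hB hBc D hD hDc => by
      rintro y ⟨⟨hy, hya⟩, hyD⟩
      refine ⟨Subgroup.mem_iInf.2 fun d => ?_, hya⟩
      exact hbal B hB (elemAb_mono hA hB) hBc d (hD d.2.1) d.2.2
        ⟨hy, mem_centralizer_singleton_iff.2 (mem_centralizer_iff.1 hyD d d.2.1).symm⟩)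
    hb _ (θ a) rfl (hinv a ha) (hsol a ha ha1) (hodd a ha ha1)
    (iSup_le fun B => le_iSup_of_le ⟨B, B.2.1, B.2.2.2⟩
      (le_inf (le_iSup_of_le B le_rfl) le_rfl))
  exact h.trans (iSup_le fun B => le_iSup_of_le ⟨B, B.2.1, elemAb_mono hA B.2.1, B.2.2⟩
    (inf_le_inf_right _ inf_le_left))

/-- The odd subgroup `W` generated by the balanced functor. -/
theorem exists_functor (hr : r ≠ 0) (hA : Cfsg.IsElementaryAbelian 2 A) (hAr : 2 ^ (r + 2) ≤ Nat.card A)
    (hbal : Cfsg.IsKBalancedWrt 2 r A) :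
    ∃ W : Subgroup G, Odd (Nat.card W) ∧ normalizer (A : Set G) ≤ normalizer (W : Set G) ∧
      (∀ E ≤ A, 2 ^ (r + 1) ≤ Nat.card E → centralizer (E : Set G) ≤ normalizer (W : Set G)) ∧
      (∀ B ≤ A, 2 ^ r ≤ Nat.card B → Cfsg.signalizerDelta 2 B ≤ W) ∧
      (∀ a ∈ A, a ≠ 1 → Cfsg.centralizerPPrimeCore 2 a ≤ normalizer (W : Set G)) := by
  haveI : Fact (Nat.Prime 2) := ⟨Nat.prime_two⟩
  obtain ⟨⟨h1, h2, h3, h4⟩, h5⟩ := isSolvableSignalizerFunctor_theta hr hA hAr hbal
  have h3' : 2 ^ 3 ≤ Nat.card A := (Nat.pow_le_pow_right two_pos (by omega)).trans hAr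
  obtain ⟨hW, -⟩ := Cfsg.Agent.S0217.result A (elemAb_comm hA) hA.2 h3' (Cfsg.kBalancedTheta 2 r A) h1 h2 h3 h5 h4
  set W := Cfsg.signalizerClosure A (Cfsg.kBalancedTheta 2 r A) with hWdef
  have hodd : Odd (Nat.card W) := Nat.not_even_iff_odd.1 fun h => hW (even_iff_two_dvd.1 h)
  have hA1 : A ≠ ⊥ := ne_bot_of_card (Nat.succ_ne_zero _) hAr
  have hAr1 : 2 ^ (r + 1) ≤ Nat.card A := (Nat.pow_le_pow_right two_pos (by omega)).trans hAr
  have heq : ∀ E ≤ A, 2 ^ (r + 1) ≤ Nat.card E → W =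
      ⨆ B : {B : Subgroup G // B ≤ E ∧ Cfsg.IsElementaryAbelian 2 B ∧ 2 ^ r ≤ Nat.card ↥B},
        Cfsg.signalizerDelta 2 (B : Subgroup G) :=
    fun E hE hEc => closure_eq hr hA hbal hE hEc
  have hCE : ∀ E ≤ A, 2 ^ (r + 1) ≤ Nat.card E → centralizer (E : Set G) ≤ normalizer (W : Set G) := by
    intro E hE hEc c hc
    rw [mem_normalizer_iff_smul, heq E hE hEc]
    refine Cfsg.Agent.Grp.Cocyclic.smul_iSup_eq _ _ fun B => mem_normalizer_iff_smul.1 ?_
    have key : ∀ d ∈ centralizer (E : Set G), ∀ y ∈ Cfsg.signalizerDelta 2 (B : Subgroup G),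
        d * y * d⁻¹ ∈ Cfsg.signalizerDelta 2 (B : Subgroup G) := fun d hd y hy => Subgroup.mem_iInf.2 fun b =>
      centralizerPPrimeCore_conj (mem_centralizer_iff.1 hd b (B.2.1 b.2.1)).symm (Subgroup.mem_iInf.1 hy b)
    exact invariant_iff.1 key hc
  refine ⟨W, hodd, ?_, hCE, fun B hB hBc => ?_, fun a ha ha1 => ?_⟩
  · intro n hn
    rw [mem_normalizer_iff_smul]
    suffices h : ∀ m ∈ normalizer (A : Set G), MulAut.conj m • W ≤ W by
      refine le_antisymm (h n hn) ?_
      have := pointwise_smul_le_pointwise_smul_iff (a := MulAut.conj n) |>.mpr (h n⁻¹ (inv_mem hn))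
      rwa [conj_smul_conj_smul, mul_inv_cancel, map_one, one_smul] at this
    intro m hm
    rw [← map_conj_eq_smul, map_le_iff_le_comap, heq A le_rfl hAr1]
    refine iSup_le fun B => ?_
    rw [← map_le_iff_le_comap]
    have hB' : (B : Subgroup G).map (MulAut.conj m).toMonoidHom ≤ A := by
      rintro _ ⟨x, hx, rfl⟩
      exact (mem_normalizer_iff.1 hm x).1 (B.2.1 hx)
    refine le_trans ?_ (le_iSup_of_le ⟨(B : Subgroup G).map (MulAut.conj m).toMonoidHom, hB', elemAb_mono hA hB',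
      by rw [card_map_of_injective (MulAut.conj m).injective]; exact B.2.2.2⟩ le_rfl)
    rintro _ ⟨y, hy, rfl⟩
    refine Subgroup.mem_iInf.2 ?_
    rintro ⟨_, ⟨x, hx, rfl⟩, hx1⟩
    exact centralizerPPrimeCore_conj_mem (Subgroup.mem_iInf.1 hy ⟨x, hx, fun e => hx1 (by rw [e, map_one])⟩)
  · rw [heq A le_rfl hAr1]
    exact le_iSup_of_le ⟨B, hB, elemAb_mono hA hB, hBc⟩ le_rfl
  · refine le_of_hyperplanes hA hA1 _ (fun h => Nat.prime_two.coprime_iff_not_dvd.mp
      (centralizerPPrimeCore_coprime (p := 2) a).symm h) ?_ fun D hD hi => ?_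
    · rw [← invariant_iff]
      exact fun c hc y hy => centralizerPPrimeCore_conj (elemAb_comm hA c hc a ha) hy
    · exact inf_le_right.trans (hCE D hD (card_hyperplane hA hD hi hAr))

end Functor

end Cfsg.Agent.Invol.StrongClosed
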