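import Cfsg.Agent.Lib.Invol.StrongClosed.Combinatorics

/-!
# Maximal factors without partners: only `|V| = 8` (for S1169)
-/

set_option autoImplicit false

namespace Cfsg.Agent.Invol.StrongClosed

open Subgroup

universe u v

theorem parity_contra {P P' A A' B B' : Prop} (h1 : P ↔ ¬ (A ↔ B)) (h2 : P' ↔ ¬ (A' ↔ B'))
    (h3 : (P ↔ P') ↔ ¬ ((A ↔ A') ↔ (B ↔ B'))) : False := by
  by_cases hA : A <;> by_cases hA' : A' <;> by_cases hB : B <;> by_cases hB' : B' <;>
    simp only [hA, hA', hB, hB', iff_true, true_iff, iff_false, false_iff, not_true, not_false_iff, iff_self] at h1 h2 h3 <;>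
    simp_all

namespace FacSys

variable {V : Type u} [CommGroup V] {ι : Type v} (S : FacSys V ι)
include S

/-- `j` is inside `i`: the fixed part of `j` lies in the moved part of `i`. -/
def Ins (i j : ι) : Prop := i ≠ j ∧ S.D j ≤ S.E i

/-- `j` is a graph seen from `i`. -/
def Gr (i j : ι) : Prop := i ≠ j ∧ S.D j ⊓ S.E i = ⊥

theorem not_ins_and_gr {i j : ι} (h : S.Ins i j) (h' : S.Gr i j) : False :=
  S.D_ne j (le_bot_iff.1 (h'.2 ▸ le_inf le_rfl h.2))

/-- The index of the image under an element of `X`. -/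
noncomputable def img (x : ↥S.X) (i : ι) : ι := (S.act x x.2 i).choose

theorem D_img (x : ↥S.X) (i : ι) : S.D (S.img x i) = (S.D i).map (x : MulAut V).toMonoidHom :=
  (S.act x x.2 i).choose_spec.1

theorem E_img (x : ↥S.X) (i : ι) : S.E (S.img x i) = (S.E i).map (x : MulAut V).toMonoidHom :=
  (S.act x x.2 i).choose_spec.2

theorem img_inj (x : ↥S.X) : Function.Injective (S.img x) := fun i j h =>
  S.D_inj (Subgroup.map_injective (MulEquiv.injective (x : MulAut V))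
    (by rw [← S.D_img, ← S.D_img, h]))

theorem exists_img (i j : ι) : ∃ x : ↥S.X, S.img x i = j := by
  obtain ⟨x, hx, hD, -⟩ := S.trans i j
  exact ⟨⟨x, hx⟩, S.D_inj ((S.D_img ⟨x, hx⟩ i).trans hD.symm)⟩

theorem ins_img {i j : ι} (h : S.Ins i j) (x : ↥S.X) : S.Ins (S.img x i) (S.img x j) :=
  ⟨fun e => h.1 (S.img_inj x e), by rw [S.D_img, S.E_img]; exact Subgroup.map_mono h.2⟩

theorem gr_img {i j : ι} (h : S.Gr i j) (x : ↥S.X) : S.Gr (S.img x i) (S.img x j) := by
  refine ⟨fun e => h.1 (S.img_inj x e), ?_⟩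
  rw [S.D_img, S.E_img, ← Subgroup.map_inf _ _ _ (MulEquiv.injective (x : MulAut V)), h.2, Subgroup.map_bot]

theorem img_of_H {i : ι} {h : MulAut V} (hh : h ∈ S.H i) : S.img ⟨h, S.H_le i hh⟩ i = i := by
  refine S.D_inj ?_
  rw [S.D_img]
  ext x
  constructor
  · rintro ⟨y, hy, rfl⟩
    show h y ∈ S.D i
    rw [S.D_fix i h hh y hy]; exact hy
  · exact fun hx => ⟨x, hx, S.D_fix i h hh x hx⟩

variable (hdis : ∀ i j, i ≠ j → S.D i ⊓ S.D j = ⊥)
include hdis

/-- A covered element off `E i` propagates to its whole orbit. -/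
theorem move {i j : ι} (hij : i ≠ j) {x : V} (hx : x ∈ S.D j) (hx1 : x ≠ 1) {a v : V} (ha : a ∈ S.D i)
    (hv : v ∈ S.E i) (he : a * v = x) {w : V} (hw : w ∈ S.E i) (hw1 : w ≠ 1) :
    ∃ h : ↥S.X, S.img h i = i ∧ a * w ∈ S.D (S.img h j) := by
  have hv1 : v ≠ 1 := fun e => hij (S.owner hdis hx1 (by rw [← he, e, mul_one]; exact ha) hx)
  obtain ⟨h, hh, hhv⟩ := S.E_trans i v hv w hw hv1 hw1
  refine ⟨⟨h, S.H_le i hh⟩, S.img_of_H hh, ?_⟩
  rw [S.D_img]
  exact ⟨x, hx, by show h x = a * w; rw [← he, S.H_mul hh ha, hhv]⟩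

theorem ins_or_gr [Finite V] {i j : ι} (hij : i ≠ j) : S.Ins i j ∨ S.Gr i j := by
  classical
  haveI := Fintype.ofFinite V
  by_contra hno
  simp only [Ins, Gr, not_or, not_and] at hno
  obtain ⟨x, hx, hxE⟩ := SetLike.not_le_iff_exists.1 (hno.1 hij)
  obtain ⟨a, ha, v, hv, rfl⟩ := S.decomp i x
  have ha1 : a ≠ 1 := fun e => hxE (by rw [e, one_mul]; exact hv)
  have hx1 : a * v ≠ 1 := fun e => hxE (e ▸ one_mem _)
  have hown : ∀ w ∈ Finset.univ.filter (fun w : V => w ∈ S.E i ∧ w ≠ 1), ∃ k, i ≠ k ∧ a * w ∈ S.D k ∧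
      S.D k ⊓ S.E i ≠ ⊥ := by
    intro w hw
    simp only [Finset.mem_filter, Finset.mem_univ, true_and] at hw
    obtain ⟨h, hi, hk⟩ := S.move hdis hij hx hx1 ha hv rfl hw.1 hw.2
    refine ⟨S.img h j, fun e => hij (S.img_inj h (hi.trans e)), hk, ?_⟩
    have hEi : S.E i = (S.E i).map (h : MulAut V).toMonoidHom := by rw [← S.E_img, hi]
    rw [S.D_img, hEi, ← Subgroup.map_inf _ _ _ (MulEquiv.injective (h : MulAut V))]
    exact fun e => hno.2 hij ((Subgroup.map_eq_bot_iff_of_injective _ (MulEquiv.injective (h : MulAut V))).1 e)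
  choose o ho using hown
  haveI := S.finite_index
  haveI := Fintype.ofFinite ι
  let o' : V → ι := fun w => if hw : w ∈ Finset.univ.filter (fun w : V => w ∈ S.E i ∧ w ≠ 1) then o w hw else i
  have hsum := Finset.card_eq_sum_card_fiberwise (s := Finset.univ.filter fun w : V => w ∈ S.E i ∧ w ≠ 1)
    (t := Finset.univ) (f := o') fun _ _ => Finset.mem_univ _
  have heven : 2 ∣ (Finset.univ.filter fun w : V => w ∈ S.E i ∧ w ≠ 1).card := by
    rw [hsum]
    refine Finset.dvd_sum fun k _ => ?_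
    rcases Finset.eq_empty_or_nonempty ((Finset.univ.filter fun w : V => w ∈ S.E i ∧ w ≠ 1).filter fun w => o' w = k)
      with h | ⟨w0, hw0'⟩
    · rw [h]; simp
    obtain ⟨hw0, hk⟩ := Finset.mem_filter.1 hw0'
    obtain ⟨hik, hw0D, hne⟩ := ho w0 hw0
    simp only [o', dif_pos hw0] at hk
    subst hk
    set k := o w0 hw0 with hkdef
    have hw0E : w0 ∈ S.E i := (Finset.mem_filter.1 hw0).2.1
    have hfib : ((Finset.univ.filter fun w : V => w ∈ S.E i ∧ w ≠ 1).filter fun w => o' w = k).card =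
        Nat.card ↥(S.D k ⊓ S.E i) := by
      rw [Nat.card_eq_fintype_card, Fintype.card_subtype]
      refine Finset.card_bij' (fun w _ => w0 * w) (fun w _ => w0 * w) (fun w hw => ?_) (fun w hw => ?_)
        (fun w _ => by rw [← mul_assoc, S.two, one_mul]) (fun w _ => by rw [← mul_assoc, S.two, one_mul])
      · obtain ⟨hw, hk'⟩ := Finset.mem_filter.1 hw
        simp only [o', dif_pos hw] at hk'
        refine Finset.mem_filter.2 ⟨Finset.mem_univ _, ?_, mul_mem hw0E (Finset.mem_filter.1 hw).2.1⟩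
        have h2 : a * w0 * (a * w) ∈ S.D k := mul_mem hw0D (hk' ▸ (ho w hw).2.1)
        rwa [mul_mul_mul_comm, S.two, one_mul] at h2
      · obtain ⟨-, hD, hE⟩ := Finset.mem_filter.1 hw
        have hmem : a * (w0 * w) ∈ S.D k := by rw [← mul_assoc]; exact mul_mem hw0D hD
        have hne1 : w0 * w ≠ 1 := fun e => hik (S.owner hdis ha1 ha (by simpa [e] using hmem))
        have hmemF : w0 * w ∈ Finset.univ.filter fun w : V => w ∈ S.E i ∧ w ≠ 1 :=
          Finset.mem_filter.2 ⟨Finset.mem_univ _, mul_mem hw0E hE, hne1⟩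
        refine Finset.mem_filter.2 ⟨hmemF, ?_⟩
        simp only [o', dif_pos hmemF]
        refine S.owner hdis (fun e => ?_) (ho _ hmemF).2.1 hmem
        exact ha1 (S.eq_one_of_DE ha (by
          rw [← S.inv_eq a, inv_eq_of_mul_eq_one_right e]; exact mul_mem hw0E hE))
    rw [hfib]
    exact S.two_dvd hne
  rw [S.card_punctured] at heven
  have := S.two_dvd (S.E_ne i)
  have := Nat.card_pos (α := S.E i)
  omega

theorem gr_surj [Finite V] {i j : ι} (h : S.Gr i j) {a : V} (ha : a ∈ S.D i) :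
    ∃ v ∈ S.E i, a * v ∈ S.D j := by
  have hd : ∀ x : ↥(S.D j), ∃ a : ↥(S.D i), ∃ v ∈ S.E i, (a : V) * v = x := fun x => by
    obtain ⟨a, ha, v, hv, e⟩ := S.decomp i (x : V)
    exact ⟨⟨a, ha⟩, v, hv, e⟩
  choose f g hg he using hd
  have hinj : Function.Injective f := fun x y e => by
    have h1 : (x : V) * y ∈ S.E i := by
      rw [← he x, ← he y, e, mul_mul_mul_comm, S.two, one_mul]; exact mul_mem (hg x) (hg y)
    have h2 : (x : V) * y = 1 := mem_bot.1 (h.2 ▸ (⟨mul_mem x.2 y.2, h1⟩ : (x : V) * y ∈ S.D j ⊓ S.E i))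
    exact Subtype.ext (by rw [eq_inv_of_mul_eq_one_left h2, S.inv_eq])
  obtain ⟨x, hx⟩ := ((Nat.bijective_iff_injective_and_card f).2 ⟨hinj, S.card_D j i⟩).2 ⟨a, ha⟩
  refine ⟨g x, hg x, ?_⟩
  have := he x
  rw [hx] at this
  exact this ▸ x.2

/-- Any two graphs are conjugate under `H i`. -/
theorem gr_conj [Finite V] {i j k : ι} (hj : S.Gr i j) (hk : S.Gr i k) :
    ∃ h : ↥S.X, S.img h i = i ∧ S.img h j = k := by
  obtain ⟨⟨a, ha⟩, ha1⟩ := (S.D i).ne_bot_iff_exists_ne_one.1 (S.D_ne i)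
  have ha' : a ≠ 1 := fun e => ha1 (Subtype.ext e)
  obtain ⟨v, hv, hvD⟩ := S.gr_surj hdis hj ha
  obtain ⟨w, hw, hwD⟩ := S.gr_surj hdis hk ha
  have hne : ∀ {v : V}, v ∈ S.E i → a * v ≠ 1 := fun {v} hv e => ha' (S.eq_one_of_DE ha (by
    rw [eq_inv_of_mul_eq_one_left e, S.inv_eq]; exact hv))
  have hw1 : w ≠ 1 := fun e => hk.1 (S.owner hdis ha' ha (by simpa [e] using hwD))
  obtain ⟨h, hi, hkD⟩ := S.move hdis hj.1 hvD (hne hv) ha hv rfl hw hw1
  exact ⟨h, hi, S.owner hdis (hne hw) hkD hwD⟩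

/-- An inside factor covers the moved part. -/
theorem ins_cover {i j : ι} (h : S.Ins i j) {w : V} (hw : w ∈ S.E i) (hw1 : w ≠ 1) :
    ∃ k, S.Ins i k ∧ w ∈ S.D k := by
  obtain ⟨⟨x, hx⟩, hx1⟩ := (S.D j).ne_bot_iff_exists_ne_one.1 (S.D_ne j)
  obtain ⟨g, hi, hk⟩ := S.move hdis h.1 hx (fun e => hx1 (Subtype.ext e)) (S.D i).one_mem (h.2 hx)
    (one_mul x) hw hw1
  rw [one_mul] at hk
  refine ⟨S.img g j, ?_, hk⟩
  have := S.ins_img h g
  rwa [hi] at this

/-- A graph covers everything off the fixed and moved parts. -/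
theorem gr_cover [Finite V] {i j : ι} (h : S.Gr i j) {x : V} (hx : x ∉ S.E i) : ∃ k, x ∈ S.D k := by
  obtain ⟨a, ha, w, hw, rfl⟩ := S.decomp i x
  by_cases hw1 : w = 1
  · exact ⟨i, by rw [hw1, mul_one]; exact ha⟩
  obtain ⟨v, hv, hvD⟩ := S.gr_surj hdis h ha
  have ha1 : a ≠ 1 := fun e => hx (by rw [e, one_mul]; exact hw)
  obtain ⟨g, -, hk⟩ := S.move hdis h.1 hvD (fun e => ha1 (S.eq_one_of_DE ha (by
    rw [eq_inv_of_mul_eq_one_left e, S.inv_eq]; exact hv))) ha hv rfl hw hw1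
  exact ⟨_, hk⟩

theorem card_ins [Finite V] [Fintype ι] {i j : ι} (h : S.Ins i j) [DecidablePred (S.Ins i)] :
    (Finset.univ.filter (S.Ins i)).card * (Nat.card (S.D i) - 1) = Nat.card (S.E i) - 1 := by
  classical
  haveI := Fintype.ofFinite V
  rw [← S.card_punctured (S.E i), show (Finset.univ.filter fun x : V => x ∈ S.E i ∧ x ≠ 1) =
    (Finset.univ.filter (S.Ins i)).biUnion fun k => Finset.univ.filter fun x => x ∈ S.D k ∧ x ≠ 1 from ?_,
    Finset.card_biUnion, Finset.sum_congr rfl fun k _ => (S.card_punctured (S.D k)).trans (by rw [S.card_D k i]),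
    Finset.sum_const, smul_eq_mul]
  · intro k _ l _ hkl
    rw [Function.onFun, Finset.disjoint_left]
    intro x hx hx'
    simp only [Finset.mem_filter] at hx hx'
    exact hkl (S.owner hdis hx.2.2 hx.2.1 hx'.2.1)
  · ext x
    simp only [Finset.mem_biUnion, Finset.mem_filter, Finset.mem_univ, true_and]
    exact ⟨fun hx => let ⟨k, hk, hxk⟩ := S.ins_cover hdis h hx.1 hx.2; ⟨k, hk, hxk, hx.2⟩,
      fun ⟨k, hk, hxk, hx⟩ => ⟨hk.2 hxk, hx⟩⟩

theorem card_gr [Finite V] [Fintype ι] {i j : ι} (h : S.Gr i j) [DecidablePred (S.Gr i)] :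
    (Finset.univ.filter (S.Gr i)).card = Nat.card (S.E i) - 1 := by
  classical
  haveI := Fintype.ofFinite V
  obtain ⟨⟨a, ha⟩, ha1⟩ := (S.D i).ne_bot_iff_exists_ne_one.1 (S.D_ne i)
  have ha' : a ≠ 1 := fun e => ha1 (Subtype.ext e)
  have hex : ∀ k ∈ Finset.univ.filter (S.Gr i), ∃ v ∈ S.E i, a * v ∈ S.D k := fun k hk =>
    S.gr_surj hdis (Finset.mem_filter.1 hk).2 ha
  choose g hgE hgD using hex
  rw [← S.card_punctured (S.E i)]
  refine Finset.card_bij g (fun k hk => Finset.mem_filter.2 ⟨Finset.mem_univ _, hgE k hk, fun e => ?_⟩)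
    (fun k hk l hl e => ?_) (fun w hw => ?_)
  · exact (Finset.mem_filter.1 hk).2.1 (S.owner hdis ha' ha (by simpa [e] using hgD k hk))
  · refine S.owner hdis (fun e1 => ha' (S.eq_one_of_DE ha ?_)) (hgD k hk) (e ▸ hgD l hl)
    rw [eq_inv_of_mul_eq_one_left e1, S.inv_eq]; exact hgE k hk
  · simp only [Finset.mem_filter, Finset.mem_univ, true_and] at hw
    obtain ⟨v, hv, hvD⟩ := S.gr_surj hdis h ha
    obtain ⟨x, hi, hk⟩ := S.move hdis h.1 hvD (fun e => ha' (S.eq_one_of_DE ha (by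
      rw [eq_inv_of_mul_eq_one_left e, S.inv_eq]; exact hv))) ha hv rfl hw.1 hw.2
    have hgr := S.gr_img h x
    rw [hi] at hgr
    refine ⟨S.img x j, Finset.mem_filter.2 ⟨Finset.mem_univ _, hgr⟩, ?_⟩
    exact (S.decomp_unique ha ha (hgE _ _) hw.1 (by
      by_contra hne
      have h1 := mul_mem (hgD _ (Finset.mem_filter.2 ⟨Finset.mem_univ _, hgr⟩)) hk
      rw [mul_mul_mul_comm, S.two, one_mul] at h1
      have h3 : g (S.img x j) (Finset.mem_filter.2 ⟨Finset.mem_univ _, hgr⟩) * w ∈ S.D (S.img x j) ⊓ S.E i :=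
        ⟨h1, mul_mem (hgE _ _) hw.1⟩
      rw [hgr.2] at h3
      have h2 := mem_bot.1 h3
      exact hne (by rw [eq_inv_of_mul_eq_one_left h2, S.inv_eq]))).2

/-- Every factor sees both kinds. -/
theorem both [Finite V] [Nonempty ι] : ∀ i, (∃ j, S.Ins i j) ∧ ∃ j, S.Gr i j := by
  haveI := S.finite_index
  have hins : ∀ i k, (∃ j, S.Ins i j) → ∃ j, S.Ins k j := fun i k ⟨j, hj⟩ => by
    obtain ⟨x, rfl⟩ := S.exists_img i k
    exact ⟨_, S.ins_img hj x⟩
  have hgr : ∀ i k, (∃ j, S.Gr i j) → ∃ j, S.Gr k j := fun i k ⟨j, hj⟩ => by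
    obtain ⟨x, rfl⟩ := S.exists_img i k
    exact ⟨_, S.gr_img hj x⟩
  intro i
  -- there is another factor
  obtain ⟨j, hij⟩ : ∃ j, i ≠ j := by
    by_contra hc
    push Not at hc
    rcases S.irr (S.D i) fun x hx => by
      obtain ⟨l, hl, -⟩ := S.act x hx i
      rw [← hl, ← hc l] with e | e
    · exact S.D_ne i e
    · exact S.E_ne i ((eq_bot_iff_forall _).2 fun x hx => S.eq_one_of_DE (e ▸ mem_top x) hx)
  refine ⟨?_, ?_⟩
  · by_contra hI
    have hG : ∀ k l, k ≠ l → S.Gr k l := fun k l hkl =>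
      (S.ins_or_gr hdis hkl).resolve_left fun h => hI (hins k i ⟨l, h⟩)
    have hchar : ∀ k x, x ≠ 1 → (x ∈ S.E k ↔ ¬ ∃ l, x ∈ S.D l) := by
      intro k x hx
      refine ⟨fun hxE ⟨l, hl⟩ => hx ?_, fun hx' => by_contra fun hxE => ?_⟩
      · by_cases hkl : k = l
        · exact S.eq_one_of_DE (hkl ▸ hl) hxE
        · exact mem_bot.1 ((hG k l hkl).2 ▸ (⟨hl, hxE⟩ : x ∈ S.D l ⊓ S.E k))
      · obtain ⟨l, hl⟩ := hgr i k ⟨j, hG i j hij⟩
        exact hx' (S.gr_cover hdis hl hxE)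
    have heq : ∀ k, S.E k = S.E i := fun k => by
      ext x
      by_cases hx : x = 1
      · simp [hx]
      · rw [hchar k x hx, hchar i x hx]
    rcases S.irr (S.E i) fun x hx => by
      obtain ⟨l, -, hl⟩ := S.act x hx i
      rw [← hl, heq l] with e | e
    · exact S.E_ne i e
    · exact S.D_ne i ((eq_bot_iff_forall _).2 fun x hx => S.eq_one_of_DE hx (e ▸ mem_top x))
  · by_contra hG
    have hI : ∀ k l, k ≠ l → S.Ins k l := fun k l hkl =>
      (S.ins_or_gr hdis hkl).resolve_right fun h => hG (hgr k i ⟨l, h⟩)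
    have hED : ∀ k, k ≠ i → S.E i = S.D k := fun k hk => by
      refine le_antisymm ?_ (hI i k hk.symm).2
      by_contra hle
      obtain ⟨w, hw, hwD⟩ := SetLike.not_le_iff_exists.1 hle
      have key : ∀ w ∈ S.E i, w ∉ S.D k → w ∈ S.E k := by
        intro w hw hwD
        obtain ⟨l, hl, hwl⟩ := S.ins_cover hdis (hI i k hk.symm) hw fun e => hwD (e ▸ one_mem _)
        exact (hI k l fun e => hwD (e ▸ hwl)).2 hwl
      obtain ⟨⟨x, hx⟩, hx1⟩ := (S.D k).ne_bot_iff_exists_ne_one.1 (S.D_ne k)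
      refine hx1 (Subtype.ext (S.eq_one_of_DE hx ?_))
      have h1 := key w hw hwD
      have h2 := key (x * w) (mul_mem ((hI i k hk.symm).2 hx) hw) fun e => hwD ((mul_mem_cancel_left hx).1 e)
      exact (mul_mem_cancel_right h1).1 h2
    refine S.card_ne_two (Nat.card_eq_two_iff.2 ⟨i, j, hij, Set.eq_univ_of_forall fun k => ?_⟩)
    by_cases hk : k = i
    · exact Or.inl hk
    · exact Or.inr (S.D_inj ((hED k hk).symm.trans (hED j hij.symm)))

set_option maxHeartbeats 1000000 in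
/-- No partners: `|V| ≤ 8`, the factors are the points. -/
theorem singletons [Finite V] [Nonempty ι] (h8 : 8 ≤ Nat.card V) :
    Nat.card V = 8 ∧ (∀ i, Nat.card (S.D i) = 2 ∧ Nat.card (S.E i) = 4) ∧ (∀ v : V, v ≠ 1 → ∃ i, v ∈ S.D i) ∧
      (∀ v w : V, v ≠ 1 → w ≠ 1 → ∃ x ∈ S.X, x v = w) ∧ Odd (Nat.card S.X) := by
  classical
  haveI := S.finite_index
  haveI := Fintype.ofFinite ι
  haveI := Fintype.ofFinite V
  obtain ⟨i0⟩ := ‹Nonempty ι›
  have hb := S.both hdis
  set d := Nat.card (S.D i0) with hd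
  set e := Nat.card (S.E i0) with he
  have hdpos : 2 ≤ d := Nat.le_of_dvd Nat.card_pos (S.two_dvd (S.D_ne i0))
  have hde : 2 ∣ d := S.two_dvd (S.D_ne i0)
  have hee : 2 ∣ e := S.two_dvd (S.E_ne i0)
  have hepos : 2 ≤ e := Nat.le_of_dvd Nat.card_pos hee
  have hM : ∀ i, (Finset.univ.filter (S.Ins i)).card * (d - 1) = e - 1 := fun i => by
    obtain ⟨j, hj⟩ := (hb i).1
    rw [hd, he, S.card_D i0 i, S.card_E i0 i, S.card_ins hdis hj]
  have hGc : ∀ i, (Finset.univ.filter (S.Gr i)).card = e - 1 := fun i => by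
    obtain ⟨j, hj⟩ := (hb i).2
    rw [he, S.card_E i0 i, S.card_gr hdis hj]
  set M := (Finset.univ.filter (S.Ins i0)).card with hMdef
  have hMi : ∀ i, (Finset.univ.filter (S.Ins i)).card = M := fun i =>
    Nat.eq_of_mul_eq_mul_right (show 0 < d - 1 by omega) ((hM i).trans (hM i0).symm)
  have hMd : M * (d - 1) = e - 1 := hM i0
  have hModd : Odd M := (Nat.odd_mul.1 (hMd ▸ (Nat.odd_iff.2 (by omega) : Odd (e - 1)))).1
  have hN : Fintype.card ι = e + M := by
    have h1 : (Finset.univ.erase i0) = Finset.univ.filter (S.Ins i0) ∪ Finset.univ.filter (S.Gr i0) := by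
      ext k
      simp only [Finset.mem_erase, Finset.mem_univ, and_true, Finset.mem_union, Finset.mem_filter, true_and]
      exact ⟨fun hk => S.ins_or_gr hdis hk.symm, fun h => h.elim (fun h => h.1.symm) fun h => h.1.symm⟩
    have h2 := congrArg Finset.card h1
    rw [Finset.card_erase_of_mem (Finset.mem_univ _), Finset.card_univ, Finset.card_union_of_disjoint
      (Finset.disjoint_left.2 fun k hk hk' =>
        S.not_ins_and_gr (Finset.mem_filter.1 hk).2 (Finset.mem_filter.1 hk').2), hGc i0, ← hMdef] at h2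
    have : 0 < Fintype.card ι := Fintype.card_pos
    omega
  -- the in-degree is M too
  have hin : ∀ j, (Finset.univ.filter fun i => S.Ins i j).card = M := by
    have hle : ∀ j k, (Finset.univ.filter fun i => S.Ins i j).card ≤ (Finset.univ.filter fun i => S.Ins i k).card := by
      intro j k
      obtain ⟨x, rfl⟩ := S.exists_img j k
      refine Finset.card_le_card_of_injOn (S.img x) (fun i hi => ?_) (S.img_inj x).injOn
      simp only [Finset.coe_filter, Finset.mem_univ, true_and, Set.mem_ofPred_eq] at hi ⊢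
      exact S.ins_img hi x
    intro j
    have hsum := Finset.sum_card_bipartiteAbove_eq_sum_card_bipartiteBelow (r := S.Ins)
      (s := (Finset.univ : Finset ι)) (t := Finset.univ)
    simp only [Finset.bipartiteAbove, Finset.bipartiteBelow] at hsum
    rw [Finset.sum_congr rfl fun i _ => hMi i,
      Finset.sum_congr rfl fun k _ => le_antisymm (hle k j) (hle j k), Finset.sum_const, Finset.sum_const,
      smul_eq_mul, smul_eq_mul] at hsum
    exact (Nat.eq_of_mul_eq_mul_left Fintype.card_pos hsum).symm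
  -- some pair is not symmetric
  obtain ⟨i1, j1, hR, hnR⟩ : ∃ i j, S.Ins i j ∧ ¬ S.Ins j i := by
    by_contra hno
    push Not at hno
    let Γ : SimpleGraph ι :=
      { Adj := S.Ins, symm := ⟨fun i j h => hno i j h⟩, loopless := ⟨fun i h => h.1 rfl⟩ }
    have hs := Γ.sum_degrees_eq_twice_card_edges
    have hdeg : ∀ i, Γ.degree i = M := fun i => by
      rw [← hMi i, ← Γ.card_neighborFinset_eq_degree]
      congr 1
      ext k
      simp [Γ]
    rw [Finset.sum_congr rfl fun i _ => hdeg i, Finset.sum_const, smul_eq_mul, Finset.card_univ, hN] at hs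
    have hodd : Odd ((e + M) * M) := Nat.odd_mul.2 ⟨(Nat.even_iff.2 (by omega) : Even e).add_odd hModd, hModd⟩
    rw [hs] at hodd
    exact Nat.not_odd_iff_even.2 (even_two_mul _) hodd
  have hgr1 : S.Gr j1 i1 := (S.ins_or_gr hdis hR.1.symm).resolve_left hnR
  have hsub : ∀ j, (∃ i, S.Ins i j ∧ S.Gr j i) →
      Finset.univ.filter (S.Gr j) ⊆ Finset.univ.filter fun i => S.Ins i j := by
    rintro j ⟨i, hi, hg⟩ k hk
    simp only [Finset.mem_filter, Finset.mem_univ, true_and] at hk ⊢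
    obtain ⟨x, hx, rfl⟩ := S.gr_conj hdis hg hk
    have := S.ins_img hi x
    rwa [hx] at this
  have hle := Finset.card_le_card (hsub j1 ⟨i1, hR, hgr1⟩)
  rw [hGc, hin] at hle
  have hd2 : d = 2 := by
    by_contra hd3
    have : M * 2 ≤ M * (d - 1) := Nat.mul_le_mul_left M (by omega)
    omega
  have hMe : M = e - 1 := by rw [← hMd, hd2]; simp
  -- a tournament
  have htour : ∀ i j, i ≠ j → (S.Ins i j ↔ ¬ S.Ins j i) := by
    intro i j hij
    obtain ⟨x, hx⟩ := S.exists_img j1 i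
    have hex : ∃ k, S.Ins k i ∧ S.Gr i k := ⟨S.img x i1, hx ▸ S.ins_img hR x, hx ▸ S.gr_img hgr1 x⟩
    have heq := Finset.eq_of_subset_of_card_le (hsub i hex) (by rw [hGc, hin, hMe])
    have hmem : S.Gr i j ↔ S.Ins j i := by
      have := Finset.ext_iff.1 heq j
      simpa using this
    rw [← hmem]
    exact ⟨fun h h' => S.not_ins_and_gr h h', fun h => (S.ins_or_gr hdis hij).resolve_right h⟩
  have hD2 : ∀ i, Nat.card (S.D i) = 2 := fun i => (S.card_D i i0).trans hd2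
  have hcov : ∀ v : V, v ≠ 1 → ∃ i, v ∈ S.D i := fun v hv => by
    obtain ⟨j, hj⟩ := (hb i0).1
    obtain ⟨k, hk⟩ := (hb i0).2
    by_cases hvE : v ∈ S.E i0
    · obtain ⟨l, -, hl⟩ := S.ins_cover hdis hj hvE hv
      exact ⟨l, hl⟩
    · exact S.gr_cover hdis hk hvE
  choose o ho using hcov
  have hpt : ∀ i (x y : V), x ∈ S.D i → y ∈ S.D i → x ≠ 1 → y ≠ 1 → x = y := fun i x y hx hy hx1 hy1 => by
    obtain ⟨a, b, hab, huniv⟩ := Nat.card_eq_two_iff.1 (hD2 i)
    have hmem : ∀ z : ↥(S.D i), z = a ∨ z = b := fun z => by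
      have : z ∈ ({a, b} : Set ↥(S.D i)) := huniv ▸ Set.mem_univ z
      simpa using this
    have h1 : (⟨x, hx⟩ : ↥(S.D i)) ≠ 1 := fun e => hx1 (congrArg Subtype.val e)
    have h2 : (⟨y, hy⟩ : ↥(S.D i)) ≠ 1 := fun e => hy1 (congrArg Subtype.val e)
    refine congrArg Subtype.val (?_ : (⟨x, hx⟩ : ↥(S.D i)) = ⟨y, hy⟩)
    rcases hmem 1 with e | e <;> rcases hmem ⟨x, hx⟩ with e1 | e1 <;> rcases hmem ⟨y, hy⟩ with e2 | e2 <;>
      first
        | exact e1.trans e2.symm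
        | exact absurd (e1.trans e.symm) h1
        | exact absurd (e2.trans e.symm) h2
  have hflip : ∀ (x y : V) (hx : x ≠ 1) (hy : y ≠ 1), x ≠ y →
      (y ∈ S.E (o x hx) ↔ ¬ x ∈ S.E (o y hy)) := by
    intro x y hx hy hxy
    have hne : o x hx ≠ o y hy := fun e => hxy (hpt _ x y (ho x hx) (e ▸ ho y hy) hx hy)
    have hR : ∀ (x y : V) (hx : x ≠ 1) (hy : y ≠ 1), o x hx ≠ o y hy →
        (S.Ins (o x hx) (o y hy) ↔ y ∈ S.E (o x hx)) := fun x y hx hy hne =>
      ⟨fun h => h.2 (ho y hy), fun h => ⟨hne, fun z hz => by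
        by_cases hz1 : z = 1
        · exact hz1 ▸ one_mem _
        · exact hpt _ y z (ho y hy) hz hy hz1 ▸ h⟩⟩
    rw [← hR x y hx hy hne, ← hR y x hy hx hne.symm]
    exact htour _ _ hne
  have hVe : Nat.card V = 2 * e := by rw [← S.card_mul i0, ← hd, hd2]
  have hidx : ∀ i, (S.E i).index = 2 := fun i => by
    have h := (S.E i).card_mul_index
    rw [← S.card_mul i, hD2 i, mul_comm 2] at h
    exact Nat.eq_of_mul_eq_mul_left Nat.card_pos h
  have hlin : ∀ i (x y : V), x * y ∈ S.E i ↔ (x ∈ S.E i ↔ y ∈ S.E i) := fun i x y =>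
    Subgroup.mul_mem_iff_of_index_two (hidx i)
  have hsmall : Nat.card V < 16 := by
    by_contra hbig
    have hpg : IsPGroup 2 V := fun v => ⟨1, by rw [pow_one, pow_two, S.two]⟩
    obtain ⟨⟨a, _⟩, ha⟩ := (⊤ : Subgroup V).ne_bot_iff_exists_ne_one.1 (fun h => by
      have := congrArg (fun W : Subgroup V => Nat.card W) h
      simp only [Subgroup.card_top, Subgroup.card_bot] at this
      omega)
    have ha1 : a ≠ 1 := fun e => ha (Subtype.ext e)
    have hgen : ∀ (W : Subgroup V), Nat.card W < Nat.card V → ∃ x, x ∉ W := fun W hW =>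
      by_contra fun h => by
        push Not at h
        rw [(Subgroup.eq_top_iff' W).2 h, Subgroup.card_top] at hW
        exact lt_irrefl _ hW
    have hcl : ∀ (W : Subgroup V) (x : V), Nat.card ↥(W ⊔ zpowers x) ≤ Nat.card W * 2 := fun W x => by
      have hx2 : Nat.card (zpowers x) ≤ 2 := by
        rw [Nat.card_zpowers]
        exact Nat.le_of_dvd two_pos (orderOf_dvd_of_pow_eq_one (by rw [pow_two, S.two]))
      refine le_trans ?_ (Nat.mul_le_mul_left _ hx2)
      rw [← Nat.card_prod]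
      refine Nat.card_le_card_of_surjective (fun z : ↥W × ↥(zpowers x) =>
        (⟨(z.1 : V) * z.2, Subgroup.mul_mem_sup z.1.2 z.2.2⟩ : ↥(W ⊔ zpowers x))) fun z => ?_
      obtain ⟨p, hp, q, hq, e⟩ := Subgroup.mem_sup.1 z.2
      exact ⟨(⟨p, hp⟩, ⟨q, hq⟩), Subtype.ext e⟩
    have h1c : Nat.card (zpowers a) ≤ 2 := by
      rw [Nat.card_zpowers]
      exact Nat.le_of_dvd two_pos (orderOf_dvd_of_pow_eq_one (by rw [pow_two, S.two]))
    obtain ⟨b, hb'⟩ := hgen (zpowers a) (by omega)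
    have h2c := hcl (zpowers a) b
    obtain ⟨c, hc⟩ := hgen (zpowers a ⊔ zpowers b) (by omega)
    have h3c := hcl (zpowers a ⊔ zpowers b) c
    obtain ⟨c', hc'⟩ := hgen (zpowers a ⊔ zpowers b ⊔ zpowers c) (by omega)
    have haW : a ∈ zpowers a ⊔ zpowers b := mem_sup_left (mem_zpowers a)
    have hbW : b ∈ zpowers a ⊔ zpowers b := mem_sup_right (mem_zpowers b)
    have hab : a * b ∈ zpowers a ⊔ zpowers b := mul_mem haW hbW
    have hb1 : b ≠ 1 := fun e => hb' (e ▸ one_mem _)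
    have hab1 : a * b ≠ 1 := fun e => hb' (by
      rw [show b = a⁻¹ from eq_inv_of_mul_eq_one_right e]; exact inv_mem (mem_zpowers a))
    have hc'2 : c' ∉ zpowers a ⊔ zpowers b := fun h => hc' (mem_sup_left h)
    have hcc : c * c' ∉ zpowers a ⊔ zpowers b := fun h => hc' (by
      have : c * (c * c') ∈ zpowers a ⊔ zpowers b ⊔ zpowers c :=
        mul_mem (mem_sup_right (mem_zpowers c)) (mem_sup_left h)
      rwa [← mul_assoc, S.two, one_mul] at this)
    have key : ∀ z ∉ zpowers a ⊔ zpowers b,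
        (z ∈ S.E (o (a * b) hab1) ↔ ¬ (z ∈ S.E (o a ha1) ↔ z ∈ S.E (o b hb1))) := by
      intro z hz
      have hz1 : z ≠ 1 := fun e => hz (e ▸ one_mem _)
      rw [hflip (a * b) z hab1 hz1 fun e => hz (e ▸ hab), hlin,
        hflip a z ha1 hz1 (fun e => hz (e ▸ haW)), hflip b z hb1 hz1 (fun e => hz (e ▸ hbW))]
      tauto
    have k1 := key c hc
    have k2 := key c' hc'2
    have k3 := key _ hcc
    rw [hlin, hlin, hlin] at k3
    exact parity_contra k1 k2 k3
  have hV8 : Nat.card V = 8 := by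
    have hpg : IsPGroup 2 V := fun v => ⟨1, by rw [pow_one, pow_two, S.two]⟩
    haveI : Fact (Nat.Prime 2) := ⟨Nat.prime_two⟩
    obtain ⟨n, hn⟩ := IsPGroup.iff_card.1 hpg
    rw [hn] at h8 hsmall ⊢
    have h3 : 3 ≤ n := (Nat.pow_le_pow_iff_right (a := 2) Nat.one_lt_two).1 h8
    have h4 : n < 4 := (Nat.pow_lt_pow_iff_right (a := 2) Nat.one_lt_two).1 hsmall
    rw [show n = 3 by omega]; norm_num
  refine ⟨hV8, fun i => ⟨hD2 i, by rw [S.card_E i i0]; omega⟩, fun v hv => ⟨o v hv, ho v hv⟩, ?_, ?_⟩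
  · intro v w hv hw
    obtain ⟨⟨x, hx⟩, hxi⟩ := S.exists_img (o v hv) (o w hw)
    refine ⟨x, hx, hpt (o w hw) (x v) w ?_ (ho w hw) ?_ hw⟩
    · rw [← hxi, S.D_img]; exact ⟨v, ho v hv, rfl⟩
    · exact fun e => hv ((MulEquiv.map_eq_one_iff x).1 e)
  · by_contra hev
    rw [Nat.not_odd_iff_even, even_iff_two_dvd] at hev
    haveI : Fact (Nat.Prime 2) := ⟨Nat.prime_two⟩
    haveI : Finite ↥S.X := Finite.of_injective (fun x : ↥S.X => ((x : MulAut V) : V → V))
      fun x y h => Subtype.ext (MulEquiv.ext (congrFun h))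
    obtain ⟨x, hx⟩ := exists_prime_orderOf_dvd_card' 2 hev
    obtain ⟨v, hv⟩ : ∃ v : V, (x : MulAut V) v ≠ v := by
      by_contra h
      push Not at h
      have : x = 1 := Subtype.ext (MulEquiv.ext h)
      rw [this, orderOf_one] at hx
      omega
    have hxx : (x : MulAut V) ((x : MulAut V) v) = v := by
      have h := pow_orderOf_eq_one x
      rw [hx, pow_two] at h
      exact congrArg (fun y : ↥S.X => (y : MulAut V) v) h
    have hv1 : v ≠ 1 := fun e => hv (by rw [e, map_one])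
    have hxv1 : (x : MulAut V) v ≠ 1 := fun e => hv1 ((MulEquiv.map_eq_one_iff _).1 e)
    set w := (x : MulAut V) v with hw
    have himg : S.img x (o v hv1) = o w hxv1 := S.owner hdis hxv1
      (by rw [S.D_img]; exact ⟨v, ho v hv1, rfl⟩) (ho w hxv1)
    have hswap : w ∈ S.E (o v hv1) ↔ v ∈ S.E (o w hxv1) := by
      have hiff : ∀ u : V, u ∈ S.E (o v hv1) → (x : MulAut V) u ∈ S.E (o w hxv1) := fun u hu => by
        rw [← himg, S.E_img]; exact ⟨u, hu, rfl⟩
      refine ⟨fun h => hxx ▸ hiff w h, fun h => ?_⟩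
      rw [← himg, S.E_img] at h
      obtain ⟨u, hu, hu'⟩ := h
      exact (MulEquiv.injective (x : MulAut V) (hu'.trans hxx.symm)) ▸ hu
    have := hflip v w hv1 hxv1 (Ne.symm hv)
    tauto

omit hdis in
/-- The dichotomy: blocks or `|V| = 8`. -/
theorem blocks_or_eight [Finite V] [Nonempty ι] (h8 : 8 ≤ Nat.card V) :
    ((∀ i j, i ≠ j → S.E i ≤ S.D j) ∧ ⨆ i, S.E i = ⊤ ∧ 3 ≤ Nat.card ι) ∨
      (Nat.card V = 8 ∧ (∀ i j, i ≠ j → S.D i ⊓ S.D j = ⊥) ∧ (∀ i, Nat.card (S.D i) = 2 ∧ Nat.card (S.E i) = 4) ∧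
        (∀ v : V, v ≠ 1 → ∃ i, v ∈ S.D i) ∧
        (∀ v w : V, v ≠ 1 → w ≠ 1 → ∃ x ∈ S.X, x v = w) ∧ Odd (Nat.card S.X)) := by
  rcases S.orth_cases with h | h
  · exact Or.inl (S.blocks h)
  · have hdis : ∀ i j, i ≠ j → S.D i ⊓ S.D j = ⊥ := fun i j hij => not_not.1 fun e => h i j ⟨hij, e⟩
    obtain ⟨a, b, c, d, e⟩ := S.singletons hdis h8
    exact Or.inr ⟨a, hdis, b, c, d, e⟩

end FacSys

end Cfsg.Agent.Invol.StrongClosed
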