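import Cfsg.Agent.Lib.Invol.StrongClosed.Balance
import Cfsg.Agent.Lib.Grp.Components
import Cfsg.Agent.Lib.Grp.PComponents

/-!
# One class of blocks (section 5 for S1169)

`A` is covered by axes `F i` (the sums of all blocks but one).  Then the centralisers of the elements of `A#`
lie in one proper subgroup: either the normaliser of the functor subgroup, or that of the product of the
perfect parts of `⁅C(F i), A⁆`.
-/

set_option autoImplicit false
set_option linter.unusedSectionVars false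
set_option linter.style.haveILetI false
set_option maxHeartbeats 1000000

namespace Cfsg.Agent.Invol.StrongClosed.OneClass

open Subgroup Cfsg.Agent.Grp Cfsg.Agent.Block.KBalance Cfsg.Agent.Invol.StrongClosed
open scoped commutatorElement Pointwise

universe u v

section Perfect

variable {G : Type u} [Group G] [Finite G]

/-- The largest perfect subgroup below `H`. -/
def perfPart (H : Subgroup G) : Subgroup G := sSup {W | W ≤ H ∧ ⁅W, W⁆ = W}

theorem perfPart_le (H : Subgroup G) : perfPart H ≤ H := sSup_le fun _ h => h.1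

theorem le_perfPart {H W : Subgroup G} (h : W ≤ H) (hp : ⁅W, W⁆ = W) : W ≤ perfPart H := le_sSup ⟨h, hp⟩

theorem perfPart_perfect (H : Subgroup G) : ⁅perfPart H, perfPart H⁆ = perfPart H :=
  le_antisymm (commutator_le_self _)
    (sSup_le fun W hW => hW.2.symm.le.trans (commutator_mono (le_sSup hW) (le_sSup hW)))

theorem map_perfPart_le {H : Subgroup G} (f : G →* G) : (perfPart H).map f ≤ perfPart (H.map f) := by
  rw [map_le_iff_le_comap]
  refine sSup_le fun W hW => map_le_iff_le_comap.1 (le_perfPart (map_mono hW.1) ?_)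
  rw [← map_commutator, hW.2]

theorem perfect_sup {V W : Subgroup G} (hV : ⁅V, V⁆ = V) (hW : ⁅W, W⁆ = W) : ⁅V ⊔ W, V ⊔ W⁆ = V ⊔ W :=
  le_antisymm (commutator_le_self _) (sup_le (hV.symm.le.trans (commutator_mono le_sup_left le_sup_left))
    (hW.symm.le.trans (commutator_mono le_sup_right le_sup_right)))

theorem le_normalizer_sSup {B : Subgroup G} {T : Set (Subgroup G)} (h : ∀ J ∈ T, B ≤ normalizer (J : Set G)) :
    B ≤ normalizer ((sSup T : Subgroup G) : Set G) := fun b hb => by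
  rw [mem_normalizer_iff_smul, sSup_eq_iSup']
  exact Cocyclic.smul_iSup_eq _ _ fun J => mem_normalizer_iff_smul.1 (h J J.2 hb)

theorem le_normalizer_sup_of {B H K : Subgroup G} (h1 : B ≤ normalizer (H : Set G))
    (h2 : B ≤ normalizer (K : Set G)) : B ≤ normalizer ((H ⊔ K : Subgroup G) : Set G) := fun b hb => by
  rw [mem_normalizer_iff_smul, smul_sup, mem_normalizer_iff_smul.1 (h1 hb), mem_normalizer_iff_smul.1 (h2 hb)]

/-- A solvable factor can be left out above a perfect subgroup. -/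
theorem perfect_le_of_solvable {V R : Subgroup G} (hV : ⁅V, V⁆ = V) :
    ∀ (n : ℕ) (W : Subgroup G), Nat.card W = n → Group.IsSolvable W → W ≤ normalizer (R : Set G) →
      V ≤ W ⊔ R → V ≤ R := by
  intro n
  induction n using Nat.strong_induction_on with
  | _ n ih =>
  intro W hn hW hWR hVW
  by_cases h0 : W = ⊥
  · rwa [h0, bot_sup_eq] at hVW
  have hlt : ⁅W, W⁆ < W := commutator_lt_self_of_solvable hW h0
  refine ih _ (hn ▸ lt_of_le_of_ne (card_le_of_le hlt.le) fun e => hlt.ne (eq_of_le_of_card_ge hlt.le e.ge))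
    ⁅W, W⁆ rfl (isSolvable_of_le hlt.le hW) (hlt.le.trans hWR) ?_
  refine hV.symm.le.trans ((commutator_mono hVW hVW).trans ?_)
  refine commutator_le_of_generators (s := (W : Set G) ∪ R) (by rw [Subgroup.closure_union, Subgroup.closure_eq, Subgroup.closure_eq])
    (Set.union_subset (fun _ h => mem_sup_left h) fun _ h => mem_sup_right h) ?_ ?_
  · refine sup_le (le_normalizer_sup_of ?_ hWR) (le_sup_right.trans Subgroup.le_normalizer)
    exact left_le_normalizer_commutator W W
  · rintro x (hx | hx) y (hy | hy)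
    · exact mem_sup_left (commutator_mem_commutator hx hy)
    · refine mem_sup_right ?_
      rw [commutatorElement_def]
      exact R.mul_mem (mem_conj_normalizer (hWR hx) hy) (R.inv_mem hy)
    · refine mem_sup_right ?_
      rw [commutatorElement_def, mul_assoc, mul_assoc]
      exact R.mul_mem hx (by rw [← mul_assoc]; exact mem_conj_normalizer (hWR hy) (R.inv_mem hx))
    · refine mem_sup_right ?_
      rw [commutatorElement_def]
      exact R.mul_mem (R.mul_mem (R.mul_mem hx hy) (R.inv_mem hx)) (R.inv_mem hy)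

/-- Three subgroups, for a perfect first entry. -/
theorem le_centralizer_of_perfect {J B : Subgroup G} (hJ : ⁅J, J⁆ = J) (h : ⁅⁅J, B⁆, J⁆ = ⊥) :
    J ≤ centralizer (B : Set G) := by
  rw [← commutator_eq_bot_iff_le_centralizer]
  have h1 := commutator_commutator_eq_bot_of_rotate (H₁ := J) (H₂ := J) (H₃ := B) h
    (by rw [commutator_comm B J]; exact h)
  rwa [hJ] at h1

theorem component_commutator_eq {J B : Subgroup G} (hJ : Cfsg.IsComponent J) (hB : B ≤ normalizer (J : Set G))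
    (hnc : ¬ J ≤ centralizer (B : Set G)) : ⁅J, B⁆ = J := by
  have hle : ⁅J, B⁆ ≤ J := commutator_le_left_of_le_normalizer hB
  have hn : ((⁅J, B⁆ : Subgroup G).subgroupOf J).Normal :=
    normal_subgroupOf_of_le_normalizer (left_le_normalizer_commutator B J)
  rcases IsQuasisimple.eq_top_or_le_center_of_subnormal hJ.2 hn.isSubnormal with e | e
  · exact le_antisymm hle (subgroupOf_eq_top.mp e)
  · refine absurd (le_centralizer_of_perfect (IsComponent.perfect hJ) ?_) hnc
    rw [commutator_eq_bot_iff_le_centralizer]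
    intro x hx
    exact mem_centralizer_iff.2 fun y hy => congrArg Subtype.val
      (mem_center_iff.mp (e (show (⟨x, hle hx⟩ : ↥J) ∈ (⁅J, B⁆ : Subgroup G).subgroupOf J from hx)) ⟨y, hy⟩)

/-- A perfect subgroup fixed by `B` has no part in a factor where only solvable subgroups are fixed. -/
theorem perfect_le_drop {J R B V : Subgroup G} (hJR : J ≤ centralizer (R : Set G))
    (hBJ : B ≤ normalizer (J : Set G)) (hBR : B ≤ normalizer (R : Set G))
    (hsolv : ∀ W ≤ J, W ≤ centralizer (B : Set G) → Group.IsSolvable W) (hV : ⁅V, V⁆ = V)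
    (hVB : V ≤ centralizer (B : Set G)) (h : V ≤ J ⊔ R) : V ≤ R := by
  have hJN : J ≤ normalizer (R : Set G) := hJR.trans (centralizer_le_normalizer _)
  have hRV : V ≤ normalizer (R : Set G) := h.trans (sup_le hJN Subgroup.le_normalizer)
  set W := J ⊓ (V ⊔ R)
  have hWB : ⁅W, B⁆ ≤ J ⊓ R := by
    refine le_inf ((commutator_mono inf_le_left le_rfl).trans (commutator_le_left_of_le_normalizer hBJ)) ?_
    rw [commutator_le]
    rintro w ⟨-, hw⟩ b hb
    replace hw : w ∈ V ⊔ R := hw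
    rw [← SetLike.mem_coe, coe_mul_of_left_le_normalizer_right _ _ hRV] at hw
    obtain ⟨v, hv, r, hr, rfl⟩ := hw
    have hvb : v * b = b * v := (mem_centralizer_iff.1 (hVB hv) b hb).symm
    have e : ⁅v * r, b⁆ = v * (r * (b * r⁻¹ * b⁻¹)) * v⁻¹ := by
      rw [commutatorElement_def, mul_inv_rev]
      calc v * r * b * (r⁻¹ * v⁻¹) * b⁻¹ = v * r * b * r⁻¹ * (b⁻¹ * (b * v⁻¹ * b⁻¹)) := by group
        _ = v * r * b * r⁻¹ * (b⁻¹ * v⁻¹) := by
          rw [show b * v⁻¹ * b⁻¹ = v⁻¹ from by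
            rw [mul_inv_eq_iff_eq_mul]; exact ((show Commute v b from hvb).inv_left.eq).symm]
        _ = v * (r * (b * r⁻¹ * b⁻¹)) * v⁻¹ := by group
    rw [e]
    exact mem_conj_normalizer (hRV hv) (R.mul_mem hr (mem_conj_normalizer (hBR hb) (R.inv_mem hr)))
  have hc : ⁅⁅W, B⁆, W⁆ = ⊥ := by
    rw [commutator_eq_bot_iff_le_centralizer]
    exact (hWB.trans inf_le_right).trans ((le_centralizer_iff.1 hJR).trans (centralizer_le inf_le_left))
  have hW' : ⁅W, W⁆ ≤ centralizer (B : Set G) := by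
    rw [← commutator_eq_bot_iff_le_centralizer]
    exact commutator_commutator_eq_bot_of_rotate hc (by rw [commutator_comm B W]; exact hc)
  have hWs : Group.IsSolvable W := by
    have h1 := hsolv ⁅W, W⁆ ((commutator_le_self _).trans inf_le_left) hW'
    haveI := h1
    refine Group.isSolvable_of_ker_le_range (Subgroup.inclusion (commutator_le_self W)) Abelianization.of
      fun x hx => ?_
    have h2 : (x : G) ∈ (⁅W, W⁆ : Subgroup G) := by
      rw [← map_subtype_commutator]
      exact ⟨x, (QuotientGroup.eq_one_iff x).1 hx, rfl⟩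
    exact ⟨⟨x, h2⟩, rfl⟩
  refine perfect_le_of_solvable hV _ W rfl hWs (inf_le_left.trans hJN) fun v hv => ?_
  have hv' : v ∈ ((J ⊔ R : Subgroup G) : Set G) := h hv
  rw [coe_mul_of_left_le_normalizer_right _ _ hJN] at hv'
  obtain ⟨j, hj, r, hr, rfl⟩ := hv'
  refine mul_mem_sup ⟨hj, ?_⟩ hr
  simpa using (V ⊔ R).mul_mem (mem_sup_left hv) ((V ⊔ R).inv_mem (mem_sup_right hr))

/-- An odd subgroup inside a product of components normalised by them is trivial. -/
theorem eq_bot_of_odd_in_components (hO : Cfsg.pPrimeCore 2 G = ⊥) {T : Set (Subgroup G)}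
    (hT : ∀ J ∈ T, Cfsg.IsComponent J) {R : Subgroup G} (hodd : Odd (Nat.card R)) (hR : R ≤ sSup T)
    (hN : sSup T ≤ normalizer (R : Set G)) : R = ⊥ := by
  classical
  haveI : Fact (Nat.Prime 2) := ⟨Nat.prime_two⟩
  have hsol : Group.IsSolvable R := Cfsg.Agent.S0205.result hodd
  let _ : Fintype (Subgroup G) := Fintype.ofFinite _
  set S := Finset.univ.filter fun J => J ∈ T
  have hS : S.sup id = sSup T := le_antisymm (Finset.sup_le fun J hJ => le_sSup (by simpa [S] using hJ))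
    (sSup_le fun J hJ => Finset.le_sup (f := id) (by simpa [S] using hJ))
  have hc : R ≤ centralizer ((S.sup id : Subgroup G) : Set G) := by
    rw [le_centralizer_iff, hS]
    exact sSup_le fun J hJ => commutator_eq_bot_iff_le_centralizer.1
      (component_centralizes_solvable (hT J hJ) hsol ((le_sSup hJ).trans hN))
  have h1 : R ≤ Cfsg.fittingSubgroup G := by
    refine (le_inf (hR.trans hS.ge) hc).trans ((center_sup_components S fun J hJ => hT J (by simpa [S] using hJ)).trans ?_)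
    exact iSup₂_le fun J hJ => component_centralizer_inf_le_fitting (hT J (by simpa [S] using hJ))
  rw [fitting_eq_pCore (p := 2) hO] at h1
  rw [eq_bot_iff]
  intro x hx
  obtain ⟨j, hj⟩ := pCore_isPGroup (p := 2) ⟨x, h1 hx⟩
  exact mem_bot.2 (pow_eq_one_coprime (p := 2) (k := j) (by simpa using congrArg Subtype.val hj)
    (((Nat.coprime_two_left.2 hodd).symm).coprime_dvd_left (orderOf_dvd_natCard _ hx)))

end Perfect

section Bar

variable {G : Type u} [Group G] [Finite G]

/-- `C(a)/O(C a)`. -/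
abbrev Quo (a : G) : Type u := ↥(centralizer ({a} : Set G)) ⧸ Cfsg.pPrimeCore 2 ↥(centralizer ({a} : Set G))

/-- The image of `H ∩ C(a)`. -/
def bar (a : G) (H : Subgroup G) : Subgroup (Quo a) :=
  (H.subgroupOf (centralizer ({a} : Set G))).map (QuotientGroup.mk' _)

/-- The preimage in `G`. -/
def pre (a : G) (V : Subgroup (Quo a)) : Subgroup G :=
  (V.comap (QuotientGroup.mk' _)).map (centralizer ({a} : Set G)).subtype

variable {a : G}

theorem bar_mono {H K : Subgroup G} (h : H ≤ K) : bar a H ≤ bar a K :=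
  map_mono fun _ hx => mem_subgroupOf.2 (h (mem_subgroupOf.1 hx))

theorem mem_bar {H : Subgroup G} {x : G} (hxC : x ∈ centralizer ({a} : Set G)) (hx : x ∈ H) :
    (QuotientGroup.mk ⟨x, hxC⟩ : Quo a) ∈ bar a H := ⟨⟨x, hxC⟩, hx, rfl⟩

theorem bar_sup {H K : Subgroup G} (hH : H ≤ centralizer ({a} : Set G)) (hK : K ≤ centralizer ({a} : Set G)) :
    bar a (H ⊔ K) = bar a H ⊔ bar a K := by
  rw [bar, subgroupOf_sup hH hK, Subgroup.map_sup]
  rfl

theorem bar_commutator {H K : Subgroup G} (hH : H ≤ centralizer ({a} : Set G))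
    (hK : K ≤ centralizer ({a} : Set G)) : bar a ⁅H, K⁆ = ⁅bar a H, bar a K⁆ := by
  have e : (⁅H, K⁆ : Subgroup G).subgroupOf (centralizer ({a} : Set G)) =
      ⁅H.subgroupOf (centralizer ({a} : Set G)), K.subgroupOf (centralizer ({a} : Set G))⁆ := by
    apply map_injective (centralizer ({a} : Set G)).subtype_injective
    rw [map_commutator, map_subgroupOf_eq_of_le hH, map_subgroupOf_eq_of_le hK,
      map_subgroupOf_eq_of_le ((commutator_mono hH hK).trans (commutator_le_self _))]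
  rw [bar, e, map_commutator]
  rfl

theorem bar_le_centralizer {H K : Subgroup G} (h : H ≤ centralizer (K : Set G)) :
    bar a H ≤ centralizer (bar a K : Set (Quo a)) := by
  rintro _ ⟨x, hx, rfl⟩
  refine mem_centralizer_iff.2 ?_
  rintro _ ⟨y, hy, rfl⟩
  rw [← map_mul, ← map_mul]
  exact congrArg _ (Subtype.ext (mem_centralizer_iff.1 (h hx) (y : G) hy))

theorem le_core_sup_of_bar_le {H K : Subgroup G} (hH : H ≤ centralizer ({a} : Set G))
    (h : bar a H ≤ bar a K) : H ≤ K ⊔ Cfsg.centralizerPPrimeCore 2 a := by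
  intro x hx
  obtain ⟨k, hk, e⟩ := h (mem_bar (hH hx) hx)
  have h1 := (QuotientGroup.eq (s := Cfsg.pPrimeCore 2 ↥(centralizer ({a} : Set G)))).1 e
  have : x = (k : G) * ((k⁻¹ * ⟨x, hH hx⟩ : ↥(centralizer ({a} : Set G))) : G) := by simp
  rw [this]
  exact mul_mem_sup hk ⟨_, h1, rfl⟩

theorem le_core_of_bar_eq_bot {H : Subgroup G} (hH : H ≤ centralizer ({a} : Set G)) (h : bar a H = ⊥) :
    H ≤ Cfsg.centralizerPPrimeCore 2 a := by
  have := le_core_sup_of_bar_le (K := (⊥ : Subgroup G)) hH (h.le.trans bot_le)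
  rwa [bot_sup_eq] at this

theorem bar_eq_bot_of_le_core {H : Subgroup G} (h : H ≤ Cfsg.centralizerPPrimeCore 2 a) : bar a H = ⊥ := by
  rw [eq_bot_iff]
  rintro _ ⟨x, hx, rfl⟩
  obtain ⟨y, hy, e⟩ := h hx
  exact mem_bot.2 ((QuotientGroup.eq_one_iff x).2 (Subtype.ext e ▸ hy))

theorem odd_card_bar {H : Subgroup G} (hH : Odd (Nat.card H)) : Odd (Nat.card (bar a H)) := by
  refine hH.of_dvd_nat ((card_map_dvd _ _).trans ?_)
  rw [← card_map_of_injective (centralizer ({a} : Set G)).subtype_injective, subgroupOf_map_subtype]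
  exact card_dvd_of_le inf_le_left

theorem exists_perfect_lift {V : Subgroup (Quo a)} (hV : ⁅V, V⁆ = V) :
    ∀ (n : ℕ) (M : Subgroup G), Nat.card M = n → M ≤ centralizer ({a} : Set G) → V ≤ bar a M →
      ∃ W ≤ M, ⁅W, W⁆ = W ∧ V ≤ bar a W := by
  intro n
  induction n using Nat.strong_induction_on with
  | _ n ih =>
  intro M hn hM hVM
  by_cases h : ⁅M, M⁆ = M
  · exact ⟨M, le_rfl, h, hVM⟩
  · have hlt : ⁅M, M⁆ < M := lt_of_le_of_ne (commutator_le_self M) h
    obtain ⟨W, hW, hWp, hVW⟩ := ih _ (hn ▸ lt_of_le_of_ne (card_le_of_le hlt.le)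
      fun e => hlt.ne (eq_of_le_of_card_ge hlt.le e.ge)) ⁅M, M⁆ rfl (hlt.le.trans hM)
      (hV.symm.le.trans ((commutator_mono hVM hVM).trans (bar_commutator hM hM).ge))
    exact ⟨W, hW.trans hlt.le, hWp, hVW⟩

end Bar

/-- The moved components of `C(a)/O(C a)`. -/
def mvSet {G : Type u} [Group G] [Finite G] (A : Subgroup G) (a : G) : Set (Subgroup (Quo a)) :=
  {J | Cfsg.IsComponent J ∧ ¬ J ≤ centralizer (bar a A : Set (Quo a))}

/-- The hypotheses of the one class case. -/
structure Axes {G : Type u} [Group G] [Finite G] (A : Subgroup G) (r : ℕ) (ι : Type v) where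
  F : ι → Subgroup G
  elem : Cfsg.IsElementaryAbelian 2 A
  r_ne : r ≠ 0
  card_A : 2 ^ (r + 2) ≤ Nat.card A
  F_le : ∀ i, F i ≤ A
  card_F : ∀ i, 2 ^ (r + 1) ≤ Nat.card (F i)
  card_kernel : ∀ i, Nat.card A < 2 ^ r * Nat.card (F i)
  card_four : ∀ i, 4 * Nat.card (F i) ≤ Nat.card A
  F_sup : ∀ i j, i ≠ j → F i ⊔ F j = A
  perm : ∀ n ∈ normalizer (A : Set G), ∀ i, ∃ j, (F i).map (MulAut.conj n).toMonoidHom = F j
  comp : ∀ a ∈ A, a ≠ 1 → ∀ J ∈ mvSet A a, bar a A ≤ normalizer (J : Set (Quo a)) ∧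
    (∃ i, a ∈ F i ∧ J ≤ centralizer (bar a (F i) : Set (Quo a)) ∧
      ∀ b ∈ A, J ≤ centralizer (bar a (zpowers b) : Set (Quo a)) → b ∈ F i) ∧
    ∀ W ≤ J, W ≤ centralizer (bar a A : Set (Quo a)) → Group.IsSolvable W
  closure : ∀ a ∈ A, a ≠ 1 → ⁅(⊤ : Subgroup (Quo a)), bar a A⁆ ≤ bar a A ⊔ sSup (mvSet A a)
  gen : ∀ a ∈ A, a ≠ 1 → centralizer ({a} : Set G) ≤
    Cfsg.centralizerPPrimeCore 2 a ⊔ normalizer (A : Set G) ⊔ pre a (sSup (mvSet A a))

namespace Axes

variable {G : Type u} [Group G] [Finite G] {A : Subgroup G} {r : ℕ} {ι : Type v} (S : Axes A r ι)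
include S

/-- The block subgroup of `C(a)/O(C a)`. -/
def blkSet (a : G) (i : ι) : Set (Subgroup (Quo a)) :=
  {J | J ∈ mvSet A a ∧ J ≤ centralizer (bar a (S.F i) : Set (Quo a))}

/-- The perfect part of `⁅C(F i), A⁆`. -/
def K (i : ι) : Subgroup G := perfPart ⁅centralizer (S.F i : Set G), A⁆

theorem comm {x y : G} (hx : x ∈ A) (hy : y ∈ A) : x * y = y * x := elemAb_comm S.elem x hx y hy

theorem A_le_centralizer {H : Subgroup G} (hH : H ≤ A) : A ≤ centralizer (H : Set G) := fun x hx =>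
  mem_centralizer_iff.2 fun h hh => S.comm (hH hh) hx

theorem A_le_C {a : G} (ha : a ∈ A) : A ≤ centralizer ({a} : Set G) := fun x hx =>
  mem_centralizer_singleton_iff.2 (S.comm hx ha)

theorem centralizer_le_C {H : Subgroup G} {a : G} (ha : a ∈ H) :
    centralizer (H : Set G) ≤ centralizer ({a} : Set G) := centralizer_le (Set.singleton_subset_iff.2 ha)

theorem K_le (i : ι) : S.K i ≤ centralizer (S.F i : Set G) :=
  (perfPart_le _).trans ((commutator_mono le_rfl (S.A_le_centralizer (S.F_le i))).trans (commutator_le_self _))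

theorem centralizer_le_normalizer_K (i : ι) :
    centralizer (S.F i : Set G) ≤ normalizer (S.K i : Set G) := by
  refine invariant_iff.1 fun c hc x hx => ?_
  have h := map_perfPart_le (MulAut.conj c).toMonoidHom ⟨x, hx, rfl⟩
  have e := mem_normalizer_iff_smul.1 (left_le_normalizer_commutator A (centralizer (S.F i : Set G)) hc)
  rw [map_conj_eq_smul, e] at h
  exact h

theorem card_inf_le {i n : ι} (h : i ≠ n) :
    Nat.card A * Nat.card ↥(S.F i ⊓ S.F n) ≤ Nat.card (S.F i) * Nat.card (S.F n) := by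
  have h1 := card_sup_mul_card_inf (H := S.F i) (N := S.F n)
    (((S.F_le i).trans (S.A_le_centralizer (S.F_le n))).trans (centralizer_le_normalizer _))
  rw [S.F_sup i n h] at h1
  exact h1.le

theorem not_le {i n : ι} (h : i ≠ n) : ¬ S.F i ≤ S.F n := fun hle => by
  have h1 := S.F_sup i n h
  rw [sup_eq_right.2 hle] at h1
  have h2 := S.card_four n
  rw [h1] at h2
  have := Nat.card_pos (α := ↥A)
  omega

theorem meets {B : Subgroup G} (hB : B ≤ A) (hBc : 2 ^ r ≤ Nat.card B) (i : ι) : B ⊓ S.F i ≠ ⊥ := by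
  intro h0
  have h1 := card_mul_relIndex (inf_le_left : B ⊓ S.F i ≤ B)
  rw [inf_relIndex_left, h0, card_bot, one_mul] at h1
  have h2 := card_mul_relIndex (S.F_le i)
  have h3 : (S.F i).relIndex B ≤ (S.F i).relIndex A := relIndex_le_of_le_right hB (by
    intro h; rw [h, mul_zero] at h2; exact (Nat.card_pos (α := ↥A)).ne h2)
  have h4 := S.card_kernel i
  rw [← h2, mul_comm (2 ^ r)] at h4
  have := Nat.lt_of_mul_lt_mul_left h4
  omega

theorem exists_ne_one {B : Subgroup G} (hB : B ≤ A) (hBc : 2 ^ r ≤ Nat.card B) : ∃ b ∈ B, b ≠ 1 := by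
  obtain ⟨⟨b, hb⟩, hb1⟩ := B.ne_bot_iff_exists_ne_one.mp (ne_bot_of_card (p := 2) S.r_ne hBc)
  exact ⟨b, hb, fun h => hb1 (Subtype.ext h)⟩

/-- Hyperplanes cut the axes in large subgroups lying in no other axis. -/
theorem hyperplane {D : Subgroup G} (hD : D ≤ A) (hi : D.relIndex A = 2) (i : ι) :
    D ⊓ S.F i ≤ A ∧ 2 ^ r ≤ Nat.card ↥(D ⊓ S.F i) ∧ ∀ n, D ⊓ S.F i ≤ S.F n → n = i := by
  have h1 := card_mul_relIndex (inf_le_right : D ⊓ S.F i ≤ S.F i)
  rw [inf_relIndex_right] at h1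
  have h2 : D.relIndex (S.F i) ≤ 2 := (relIndex_le_of_le_right (S.F_le i) (by omega)).trans hi.le
  have h3 : Nat.card (S.F i) ≤ Nat.card ↥(D ⊓ S.F i) * 2 := h1 ▸ Nat.mul_le_mul_left _ h2
  refine ⟨inf_le_left.trans hD, ?_, fun n hn => by_contra fun hne => ?_⟩
  · have := S.card_F i
    rw [pow_succ] at this
    omega
  · have h4 := S.card_inf_le (Ne.symm hne)
    have h5 := card_le_of_le (le_inf inf_le_right hn : D ⊓ S.F i ≤ S.F i ⊓ S.F n)
    have h6 := S.card_four n
    have h7 : Nat.card A * Nat.card (S.F i) ≤ 2 * (Nat.card (S.F i) * Nat.card (S.F n)) :=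
      (Nat.mul_le_mul_left _ (h3.trans (Nat.mul_le_mul_right 2 h5))).trans
        (by rw [← mul_assoc, mul_comm _ 2]; exact Nat.mul_le_mul_left _ h4)
    have h8 : Nat.card (S.F i) * (4 * Nat.card (S.F n)) ≤ Nat.card (S.F i) * Nat.card A := Nat.mul_le_mul_left _ h6
    have := Nat.mul_pos (Nat.card_pos (α := ↥(S.F i))) (Nat.card_pos (α := ↥(S.F n)))
    nlinarith

theorem perfect_le_moved {a : G} (ha : a ∈ A) (ha1 : a ≠ 1) {V : Subgroup (Quo a)} (hV : ⁅V, V⁆ = V)
    (h : V ≤ ⁅(⊤ : Subgroup (Quo a)), bar a A⁆) : V ≤ sSup (mvSet A a) := by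
  set U := sSup (mvSet A a)
  have hAU : bar a A ≤ normalizer (U : Set (Quo a)) :=
    le_normalizer_sSup fun J hJ => (S.comp a ha ha1 J hJ).1
  have hV' := h.trans (S.closure a ha ha1)
  refine hV.symm.le.trans ((commutator_mono hV' hV').trans ?_)
  refine commutator_le_of_generators (s := (bar a A : Set (Quo a)) ∪ U) (by rw [Subgroup.closure_union, Subgroup.closure_eq, Subgroup.closure_eq])
    (Set.union_subset (fun _ h => mem_sup_left h) fun _ h => mem_sup_right h) (sup_le hAU Subgroup.le_normalizer) ?_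
  rintro x (hx | hx) y (hy | hy)
  · obtain ⟨x, hx, rfl⟩ := hx
    obtain ⟨y, hy, rfl⟩ := hy
    rw [← map_commutatorElement, show ⁅x, y⁆ = 1 from commutatorElement_eq_one_iff_mul_comm.2
      (Subtype.ext (S.comm hx hy)), map_one]
    exact U.one_mem
  · rw [commutatorElement_def]
    exact U.mul_mem (mem_conj_normalizer (hAU hx) hy) (U.inv_mem hy)
  · rw [commutatorElement_def, mul_assoc, mul_assoc]
    exact U.mul_mem hx (by rw [← mul_assoc]; exact mem_conj_normalizer (hAU hy) (U.inv_mem hx))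
  · rw [commutatorElement_def]
    exact U.mul_mem (U.mul_mem (U.mul_mem hx hy) (U.inv_mem hx)) (U.inv_mem hy)

theorem bar_F_le_A (a : G) (i : ι) : bar a (S.F i) ≤ bar a A := bar_mono (S.F_le i)

theorem blk_le_centralizer (a : G) (i : ι) :
    sSup (S.blkSet a i) ≤ centralizer (bar a (S.F i) : Set (Quo a)) := sSup_le fun _ h => h.2

/-- A perfect part of `⁅X, A⁆` fixed by an axis lies in its block. -/
theorem perfect_le_blk {a : G} (ha : a ∈ A) (ha1 : a ≠ 1) (i : ι) {V : Subgroup (Quo a)} (hV : ⁅V, V⁆ = V)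
    (h : V ≤ ⁅(⊤ : Subgroup (Quo a)), bar a A⁆) (hVF : V ≤ centralizer (bar a (S.F i) : Set (Quo a))) :
    V ≤ sSup (S.blkSet a i) := by
  classical
  let _ : Fintype (Subgroup (Quo a)) := Fintype.ofFinite _
  set good := sSup (S.blkSet a i)
  have hmv := S.perfect_le_moved ha ha1 hV h
  have key : ∀ t : Finset (Subgroup (Quo a)),
      (∀ J ∈ t, J ∈ mvSet A a ∧ ¬ J ≤ centralizer (bar a (S.F i) : Set (Quo a))) →
      V ≤ t.sup id ⊔ good → V ≤ good := by
    intro t
    induction t using Finset.induction_on with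
    | empty => intro _ h; simpa using h
    | insert J t hJt ih =>
      intro ht hle
      obtain ⟨hJ, hJi⟩ := ht J (Finset.mem_insert_self J t)
      obtain ⟨hJA, ⟨n, -, hJn, -⟩, hJs⟩ := S.comp a ha ha1 J hJ
      have hni : i ≠ n := fun e => hJi (e ▸ hJn)
      refine ih (fun K hK => ht K (Finset.mem_insert_of_mem hK)) ?_
      rw [Finset.sup_insert, id, sup_assoc] at hle
      refine perfect_le_drop (B := bar a (S.F i)) ?_ ((S.bar_F_le_A a i).trans hJA) ?_ ?_ hV hVF hle
      · rw [le_centralizer_iff]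
        refine sup_le (Finset.sup_le fun K hK => ?_) (sSup_le fun K hK => ?_)
        · exact IsComponent.commute (ht K (Finset.mem_insert_of_mem hK)).1.1 hJ.1 fun e => hJt (e ▸ hK)
        · exact IsComponent.commute hK.1.1 hJ.1 fun e => hJi (e ▸ hK.2)
      · refine le_normalizer_sup_of ?_ (le_normalizer_sSup fun K hK => (S.bar_F_le_A a i).trans
          (S.comp a ha ha1 K hK.1).1)
        rw [Finset.sup_id_eq_sSup]
        exact le_normalizer_sSup fun K hK => (S.bar_F_le_A a i).trans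
          (S.comp a ha ha1 K (ht K (Finset.mem_insert_of_mem hK)).1).1
      · refine fun W hW hWF => hJs W hW ?_
        rw [← S.F_sup i n hni, bar_sup ((S.F_le i).trans (S.A_le_C ha)) ((S.F_le n).trans (S.A_le_C ha)),
          le_centralizer_iff]
        exact sup_le (le_centralizer_iff.1 hWF) (le_centralizer_iff.1 (hW.trans hJn))
  refine key (Finset.univ.filter fun J => J ∈ mvSet A a ∧ ¬ J ≤ centralizer (bar a (S.F i) : Set (Quo a)))
    (fun J hJ => by simpa using hJ) (hmv.trans (sSup_le fun J hJ => ?_))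
  by_cases hJi : J ≤ centralizer (bar a (S.F i) : Set (Quo a))
  · exact (le_sSup (s := S.blkSet a i) ⟨hJ, hJi⟩).trans le_sup_right
  · exact (Finset.le_sup (f := id) (by simpa using ⟨hJ, hJi⟩)).trans le_sup_left

theorem bar_centralizer {a : G} (i : ι) (hai : a ∈ S.F i) :
    centralizer (bar a (S.F i) : Set (Quo a)) = bar a (centralizer (S.F i : Set G)) := by
  haveI : Fact (Nat.Prime 2) := ⟨Nat.prime_two⟩
  have hP : IsPGroup 2 ↥((S.F i).subgroupOf (centralizer ({a} : Set G))) :=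
    (elemAb_isPGroup (elemAb_mono S.elem (S.F_le i))).comap_of_injective _ (subtype_injective _)
  rw [bar, ← map_centralizer_pGroup hP]
  refine le_antisymm (map_mono fun x hx => ?_) (map_mono fun x hx => ?_)
  · exact mem_subgroupOf.2 (mem_centralizer_iff.2 fun f hf =>
      congrArg Subtype.val (mem_centralizer_iff.1 hx ⟨f, ((S.F_le i).trans (S.A_le_C (S.F_le i hai))) hf⟩ hf))
  · exact mem_centralizer_iff.2 fun f hf =>
      Subtype.ext (mem_centralizer_iff.1 (mem_subgroupOf.1 hx) (f : G) hf)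

/-- The image of `K i` is the block. -/
theorem bar_K {a : G} (ha1 : a ≠ 1) (i : ι) (hai : a ∈ S.F i) : bar a (S.K i) = sSup (S.blkSet a i) := by
  have ha := S.F_le i hai
  have hC : centralizer (S.F i : Set G) ≤ centralizer ({a} : Set G) := S.centralizer_le_C hai
  refine le_antisymm ?_ (sSup_le fun J hJ => ?_)
  · refine S.perfect_le_blk ha ha1 i ?_ ?_ (bar_le_centralizer (S.K_le i))
    · rw [← bar_commutator ((S.K_le i).trans hC) ((S.K_le i).trans hC), K, perfPart_perfect]
    · refine (bar_mono (perfPart_le _)).trans ?_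
      rw [bar_commutator hC (S.A_le_C ha)]
      exact commutator_mono le_top le_rfl
  · obtain ⟨W, hW, hWp, hJW⟩ := exists_perfect_lift (IsComponent.perfect hJ.1.1) _
      (⁅centralizer (S.F i : Set G), A⁆ : Subgroup G) rfl
      ((commutator_mono hC (S.A_le_C ha)).trans (commutator_le_self _))
      (by
        rw [bar_commutator hC (S.A_le_C ha), ← S.bar_centralizer i hai]
        exact (component_commutator_eq hJ.1.1 (S.comp a ha ha1 J hJ.1).1 hJ.1.2).symm.le.trans
          (commutator_mono hJ.2 le_rfl))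
    exact hJW.trans (bar_mono (le_perfPart hW hWp))

/-- Elements centralising a large part of an axis fix its block. -/
theorem conj_blk {B : Subgroup G} {i : ι} (hBi : B ≤ S.F i) (hsep : ∀ n, B ≤ S.F n → n = i) {b : G}
    (hb : b ∈ B) (hb1 : b ≠ 1) {y : G} (hy : y ∈ centralizer (B : Set G)) :
    (sSup (S.blkSet b i)).map (MulAut.conj (QuotientGroup.mk ⟨y, S.centralizer_le_C hb hy⟩ : Quo b)).toMonoidHom ≤
      sSup (S.blkSet b i) := by
  set z : Quo b := QuotientGroup.mk ⟨y, S.centralizer_le_C hb hy⟩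
  have hbA := S.F_le i (hBi hb)
  rw [map_le_iff_le_comap]
  refine sSup_le fun J hJ => ?_
  rw [← map_le_iff_le_comap]
  set J' := J.map (MulAut.conj z).toMonoidHom
  have hJ'c : Cfsg.IsComponent J' := IsComponent.conj hJ.1.1 z
  have hJ'top : J' ≤ ⁅(⊤ : Subgroup (Quo b)), bar b A⁆ := by
    refine (map_mono ((component_commutator_eq hJ.1.1 (S.comp b hbA hb1 J hJ.1).1 hJ.1.2).symm.le.trans
      (commutator_mono le_top le_rfl))).trans ?_
    rw [map_conj_eq_smul]
    exact (mem_normalizer_iff_smul.1 (left_le_normalizer_commutator (bar b A) ⊤ (mem_top z))).le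
  have hJ'U := S.perfect_le_moved hbA hb1 (IsComponent.perfect hJ'c) hJ'top
  have hJ'm : J' ∈ mvSet A b := by
    by_contra hnot
    refine IsComponent.ne_bot hJ'c (eq_bot_of_perfect_of_comm (IsComponent.perfect hJ'c) fun x hx => ?_)
    refine (hJ'U.trans (sSup_le fun L hL => ?_) : J' ≤ centralizer (J' : Set (Quo b))) hx
    exact IsComponent.commute hL.1 hJ'c fun e => hnot (e ▸ hL)
  have hJ'B : J' ≤ centralizer (bar b B : Set (Quo b)) := by
    rintro _ ⟨x, hx, rfl⟩
    refine mem_centralizer_iff.2 fun g hg => ?_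
    have h1 : g * x = x * g := mem_centralizer_iff.1 (hJ.2 hx) g (bar_mono hBi hg)
    have h2 : Commute g z := by
      obtain ⟨g, hg, rfl⟩ := hg
      exact congrArg _ (Subtype.ext (mem_centralizer_iff.1 hy (g : G) hg))
    exact ((h2.mul_right h1).mul_right h2.inv_right).eq
  obtain ⟨-, ⟨n, -, hJn, hn⟩, -⟩ := S.comp b hbA hb1 J' hJ'm
  have hBn : B ≤ S.F n := fun β hβ => hn β (S.F_le i (hBi hβ))
    (hJ'B.trans (centralizer_le (bar_mono (zpowers_le.2 hβ))))
  exact le_sSup (s := S.blkSet b i) ⟨hJ'm, hsep n hBn ▸ hJn⟩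

variable (hΔ : ∀ B ≤ A, 2 ^ r ≤ Nat.card B → Cfsg.signalizerDelta 2 B = ⊥)
include hΔ

theorem eq_bot_of_le_cores {B Y : Subgroup G} (hB : B ≤ A) (hBc : 2 ^ r ≤ Nat.card B)
    (h : ∀ b ∈ B, b ≠ 1 → Y ≤ Cfsg.centralizerPPrimeCore 2 b) : Y = ⊥ := by
  rw [eq_bot_iff, ← hΔ B hB hBc]
  exact fun y hy => Subgroup.mem_iInf.2 fun b => h b b.2.1 b.2.2 hy

/-- `C(B)` normalises `K i` for a large part `B` of the axis. -/
theorem centralizer_le_normalizer_K' {B : Subgroup G} {i : ι} (hBi : B ≤ S.F i)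
    (hBc : 2 ^ r ≤ Nat.card B) (hsep : ∀ n, B ≤ S.F n → n = i) :
    centralizer (B : Set G) ≤ normalizer (S.K i : Set G) := by
  haveI : Fact (Nat.Prime 2) := ⟨Nat.prime_two⟩
  have hKB : S.K i ≤ centralizer (B : Set G) := (S.K_le i).trans (centralizer_le hBi)
  refine invariant_iff.1 fun y hy => ?_
  set X := (S.K i).map (MulAut.conj y).toMonoidHom
  have hXB : X ≤ centralizer (B : Set G) := by
    rintro _ ⟨x, hx, rfl⟩
    exact mul_mem (mul_mem hy (hKB hx)) (inv_mem hy)
  have hbarX : ∀ b ∈ B, b ≠ 1 → bar b X ≤ sSup (S.blkSet b i) := by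
    rintro b hb hb1 _ ⟨⟨x, hxC⟩, hx, rfl⟩
    obtain ⟨w, hw, hwx⟩ := hx
    refine S.conj_blk hBi hsep hb hb1 hy ⟨QuotientGroup.mk ⟨w, S.centralizer_le_C hb (hKB hw)⟩, ?_, ?_⟩
    · rw [SetLike.mem_coe, ← S.bar_K hb1 i (hBi hb)]
      exact mem_bar _ hw
    · exact congrArg (QuotientGroup.mk' _) (Subtype.ext (a1 := ⟨y, S.centralizer_le_C hb hy⟩ * ⟨w, S.centralizer_le_C hb (hKB hw)⟩ * ⟨y, S.centralizer_le_C hb hy⟩⁻¹) (a2 := ⟨x, hxC⟩) hwx)
  have hXF : X ≤ centralizer (S.F i : Set G) := by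
    rw [← commutator_eq_bot_iff_le_centralizer]
    refine S.eq_bot_of_le_cores hΔ (hBi.trans (S.F_le i)) hBc fun b hb hb1 => ?_
    have hXC : X ≤ centralizer ({b} : Set G) := hXB.trans (S.centralizer_le_C hb)
    have hFC : S.F i ≤ centralizer ({b} : Set G) := (S.F_le i).trans (S.A_le_C (S.F_le i (hBi hb)))
    refine le_core_of_bar_eq_bot ((commutator_mono hXC hFC).trans (commutator_le_self _)) ?_
    rw [bar_commutator hXC hFC, commutator_eq_bot_iff_le_centralizer]
    exact (hbarX b hb hb1).trans (S.blk_le_centralizer b i)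
  obtain ⟨b, hb, hb1⟩ := S.exists_ne_one (hBi.trans (S.F_le i)) hBc
  have hKp : ⁅S.K i, S.K i⁆ = S.K i := perfPart_perfect _
  have hXp : ⁅X, X⁆ = X := by rw [← map_commutator, hKp]
  set Z := S.K i ⊔ X
  have hZF : Z ≤ centralizer (S.F i : Set G) := sup_le (S.K_le i) hXF
  have hZC : Z ≤ centralizer ({b} : Set G) := hZF.trans (S.centralizer_le_C (hBi hb))
  have hZ1 : Z ≤ S.K i ⊔ Cfsg.centralizerPPrimeCore 2 b := by
    refine sup_le le_sup_left (le_core_sup_of_bar_le (le_sup_right.trans hZC) ?_)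
    rw [S.bar_K hb1 i (hBi hb)]
    exact hbarX b hb hb1
  have hON : S.K i ≤ normalizer (Cfsg.centralizerPPrimeCore 2 b : Set G) := invariant_iff.1 fun k hk x hx =>
    centralizerPPrimeCore_conj (mem_centralizer_singleton_iff.1 (S.centralizer_le_C hb (hKB hk))) hx
  have hZ2 : Z ≤ (Z ⊓ Cfsg.centralizerPPrimeCore 2 b) ⊔ S.K i := by
    intro z hz
    have hz' : z ∈ ((S.K i ⊔ Cfsg.centralizerPPrimeCore 2 b : Subgroup G) : Set G) := hZ1 hz
    rw [coe_mul_of_left_le_normalizer_right _ _ hON] at hz'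
    obtain ⟨k, hk, o, ho, rfl⟩ := hz'
    refine mul_mem (mem_sup_right hk) (mem_sup_left ⟨?_, ho⟩)
    simpa using Z.mul_mem (Z.inv_mem (mem_sup_left hk)) hz
  have hodd : Odd (Nat.card ↥(Z ⊓ Cfsg.centralizerPPrimeCore 2 b)) :=
    (Nat.coprime_two_left.1 (centralizerPPrimeCore_coprime (p := 2) b).symm).of_dvd_nat (card_dvd_of_le inf_le_right)
  have hZK : Z ≤ S.K i := perfect_le_of_solvable (perfect_sup hKp hXp) _ _ rfl (Cfsg.Agent.S0205.result hodd)
    ((inf_le_left.trans hZF).trans (S.centralizer_le_normalizer_K i)) hZ2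
  exact fun x hx => hZK (mem_sup_right ⟨x, hx, rfl⟩)

theorem core_le_normalizer_K {a : G} (ha : a ∈ A) (i : ι) :
    Cfsg.centralizerPPrimeCore 2 a ≤ normalizer (S.K i : Set G) := by
  haveI : Fact (Nat.Prime 2) := ⟨Nat.prime_two⟩
  refine le_of_hyperplanes S.elem (ne_bot_of_card (p := 2) (Nat.succ_ne_zero _) S.card_A) _
    (fun h => Nat.prime_two.coprime_iff_not_dvd.mp (centralizerPPrimeCore_coprime (p := 2) a).symm h)
    (invariant_iff.1 fun c hc y hy => centralizerPPrimeCore_conj (S.comm hc ha) hy) fun D hD hi => ?_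
  obtain ⟨-, h2, h3⟩ := S.hyperplane hD hi i
  exact inf_le_right.trans ((centralizer_le inf_le_left).trans
    (S.centralizer_le_normalizer_K' hΔ inf_le_right h2 h3))

theorem K_comm {i j : ι} (hij : i ≠ j) : ⁅S.K i, S.K j⁆ = ⊥ := by
  haveI : Fact (Nat.Prime 2) := ⟨Nat.prime_two⟩
  set Y := ⁅S.K i, S.K j⁆
  have hjc : 2 ^ r ≤ Nat.card (S.F j) := (Nat.pow_le_pow_right two_pos (Nat.le_succ r)).trans (S.card_F j)
  obtain ⟨⟨d, hdj, hdi⟩, hd1⟩ := (S.F j ⊓ S.F i).ne_bot_iff_exists_ne_one.mp (S.meets (S.F_le j) hjc i)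
  have hd1' : d ≠ 1 := fun h => hd1 (Subtype.ext h)
  have hiC := (S.K_le i).trans (S.centralizer_le_C hdi)
  have hjC := (S.K_le j).trans (S.centralizer_le_C hdj)
  have hYO : Y ≤ Cfsg.centralizerPPrimeCore 2 d := by
    refine le_core_of_bar_eq_bot ((commutator_mono hiC hjC).trans (commutator_le_self _)) ?_
    rw [bar_commutator hiC hjC, S.bar_K hd1' i hdi, S.bar_K hd1' j hdj, commutator_eq_bot_iff_le_centralizer]
    refine sSup_le fun J hJ => ?_
    rw [le_centralizer_iff]
    refine sSup_le fun L hL => IsComponent.commute hL.1.1 hJ.1.1 ?_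
    rintro rfl
    obtain ⟨-, ⟨n, -, -, hn⟩, -⟩ := S.comp d (S.F_le i hdi) hd1' L hJ.1
    have key : ∀ m, L ≤ centralizer (bar d (S.F m) : Set (Quo d)) → n = m := fun m hm => by_contra fun e =>
      S.not_le (Ne.symm e) fun f hf => hn f (S.F_le m hf) (hm.trans (centralizer_le (bar_mono (zpowers_le.2 hf))))
    exact hij ((key i hJ.2).symm.trans (key j hL.2))
  have hYodd : ¬ 2 ∣ Nat.card Y := fun h => Nat.prime_two.coprime_iff_not_dvd.mp
    (centralizerPPrimeCore_coprime (p := 2) d).symm (h.trans (card_dvd_of_le hYO))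
  have hAN : A ≤ normalizer (Y : Set G) := fun c hc => by
    rw [mem_normalizer_iff_smul, ← map_conj_eq_smul, map_commutator, map_conj_eq_smul, map_conj_eq_smul,
      mem_normalizer_iff_smul.1 (S.centralizer_le_normalizer_K i (S.A_le_centralizer (S.F_le i) hc)),
      mem_normalizer_iff_smul.1 (S.centralizer_le_normalizer_K j (S.A_le_centralizer (S.F_le j) hc))]
  have hKY : S.K j ≤ normalizer (Y : Set G) := right_le_normalizer_commutator _ _
  have hYK : Y ≤ centralizer (S.K j : Set G) := by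
    refine le_of_hyperplanes S.elem (ne_bot_of_card (p := 2) (Nat.succ_ne_zero _) S.card_A) Y hYodd hAN
      fun D hD hi => ?_
    obtain ⟨hB, hBc, hsep⟩ := S.hyperplane hD hi j
    set B := D ⊓ S.F j
    set P := Y ⊓ centralizer (D : Set G)
    rw [← commutator_eq_bot_iff_le_centralizer]
    have hPB : P ≤ centralizer (B : Set G) := inf_le_right.trans (centralizer_le inf_le_left)
    have hKB : S.K j ≤ centralizer (B : Set G) := (S.K_le j).trans (centralizer_le inf_le_right)
    have hQK : ⁅P, S.K j⁆ ≤ S.K j := by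
      rw [commutator_comm]
      exact commutator_le_left_of_le_normalizer (hPB.trans (S.centralizer_le_normalizer_K' hΔ inf_le_right hBc hsep))
    have hQY : ⁅P, S.K j⁆ ≤ Y :=
      (commutator_mono inf_le_left le_rfl).trans (commutator_le_left_of_le_normalizer hKY)
    refine S.eq_bot_of_le_cores hΔ hB hBc fun b hb hb1 => ?_
    have hC : ⁅P, S.K j⁆ ≤ centralizer ({b} : Set G) :=
      hQK.trans (hKB.trans (S.centralizer_le_C hb))
    refine le_core_of_bar_eq_bot hC (eq_bot_of_odd_in_components pPrimeCore_quotient_bot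
      (T := S.blkSet b j) (fun J hJ => hJ.1.1) (odd_card_bar ?_) ?_ ?_)
    · exact (Nat.not_even_iff_odd.1 fun h => hYodd (even_iff_two_dvd.1 h)).of_dvd_nat (card_dvd_of_le hQY)
    · exact (bar_mono hQK).trans (S.bar_K hb1 j hb.2).le
    · rw [← S.bar_K hb1 j hb.2, bar_commutator (hPB.trans (S.centralizer_le_C hb)) (hKB.trans (S.centralizer_le_C hb))]
      exact right_le_normalizer_commutator _ _
  have h1 : ⁅⁅S.K j, S.K i⁆, S.K j⁆ = ⊥ := by
    rw [commutator_comm (S.K j) (S.K i)]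
    exact commutator_eq_bot_iff_le_centralizer.2 hYK
  have h2 := le_centralizer_of_perfect (perfPart_perfect _ : ⁅S.K j, S.K j⁆ = S.K j) h1
  exact commutator_eq_bot_iff_le_centralizer.2 (le_centralizer_iff.1 h2)

omit hΔ

theorem map_K_le {n : G} (hn : n ∈ normalizer (A : Set G)) (i : ι) :
    ∃ j, (S.K i).map (MulAut.conj n).toMonoidHom ≤ S.K j := by
  obtain ⟨j, hj⟩ := S.perm n hn i
  refine ⟨j, (map_perfPart_le _).trans (le_perfPart ?_ (perfPart_perfect _))⟩
  refine (perfPart_le _).trans ?_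
  rw [map_commutator]
  refine commutator_mono ?_ ((map_conj_eq_smul _ _).trans (mem_normalizer_iff_smul.1 hn)).le
  rintro _ ⟨c, hc, rfl⟩
  refine mem_centralizer_iff.2 fun f hf => ?_
  rw [← hj] at hf
  obtain ⟨f, hf, rfl⟩ := hf
  rw [← map_mul, ← map_mul]
  exact congrArg _ (mem_centralizer_iff.1 hc f hf)

/-- A subgroup above the core and the `K i` contains the preimage of the moved components. -/
theorem pre_moved_le {a : G} (ha : a ∈ A) (ha1 : a ≠ 1) {M : Subgroup G}
    (hO : Cfsg.centralizerPPrimeCore 2 a ≤ M) (hK : ∀ i, a ∈ S.F i → S.K i ≤ M) :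
    pre a (sSup (mvSet A a)) ≤ M := by
  rintro _ ⟨x, hx, rfl⟩
  have h : sSup (mvSet A a) ≤ bar a (M ⊓ centralizer ({a} : Set G)) := sSup_le fun J hJ => by
    obtain ⟨-, ⟨i, hai, hJi, -⟩, -⟩ := S.comp a ha ha1 J hJ
    exact (le_sSup (s := S.blkSet a i) ⟨hJ, hJi⟩).trans ((S.bar_K ha1 i hai).ge.trans
      (bar_mono (le_inf (hK i hai) ((S.K_le i).trans (S.centralizer_le_C hai)))))
  obtain ⟨m, hm, e⟩ := h hx
  have h1 := (QuotientGroup.eq (s := Cfsg.pPrimeCore 2 ↥(centralizer ({a} : Set G)))).1 e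
  have h2 : ((m⁻¹ * x : ↥(centralizer ({a} : Set G))) : G) ∈ M := hO ⟨_, h1, rfl⟩
  simpa using M.mul_mem (mem_inf.1 hm).1 h2

theorem balanced : Cfsg.IsKBalancedWrt 2 r A := by
  haveI : Fact (Nat.Prime 2) := ⟨Nat.prime_two⟩
  refine kBalancedWrt_of_kernels S.r_ne S.elem fun a ha ha1 J hJ B hB hBc => ?_
  by_cases hc : J ≤ centralizer (bar a A : Set (Quo a))
  · obtain ⟨b, hb, hb1⟩ := S.exists_ne_one hB hBc.ge
    exact ⟨⟨b, S.A_le_C ha (hB hb)⟩, hb, hb1, fun x hx =>
      mem_centralizer_iff.1 (hc hx) _ (mem_bar _ (hB hb))⟩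
  · obtain ⟨-, ⟨i, -, hJi, -⟩, -⟩ := S.comp a ha ha1 J ⟨hJ, hc⟩
    obtain ⟨⟨b, hb, hbi⟩, hb1⟩ := (B ⊓ S.F i).ne_bot_iff_exists_ne_one.mp (S.meets hB hBc.ge i)
    exact ⟨⟨b, S.A_le_C ha (hB hb)⟩, hb, fun e => hb1 (Subtype.ext e), fun x hx =>
      mem_centralizer_iff.1 (hJi hx) _ (mem_bar _ hbi)⟩

/-- **One class.** The centralisers of the elements of `A#` lie in a proper subgroup. -/
theorem exists_proper [IsSimpleGroup G] (hnc : ∃ x y : G, x * y ≠ y * x)
    (hnt : ∃ a ∈ A, a ≠ 1 ∧ (mvSet A a).Nonempty) :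
    ∃ M : Subgroup G, M ≠ ⊤ ∧ normalizer (A : Set G) ≤ M ∧ ∀ a ∈ A, a ≠ 1 → centralizer ({a} : Set G) ≤ M := by
  haveI : Fact (Nat.Prime 2) := ⟨Nat.prime_two⟩
  suffices h : ∃ M : Subgroup G, M ≠ ⊤ ∧ normalizer (A : Set G) ≤ M ∧
      (∀ a ∈ A, a ≠ 1 → Cfsg.centralizerPPrimeCore 2 a ≤ M) ∧ ∀ i, S.K i ≤ M by
    obtain ⟨M, hM, hN, hO, hK⟩ := h
    exact ⟨M, hM, hN, fun a ha ha1 => (S.gen a ha ha1).trans
      (sup_le (sup_le (hO a ha ha1) hN) (S.pre_moved_le ha ha1 (hO a ha ha1) fun i _ => hK i))⟩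
  by_cases hΔ : ∀ B ≤ A, 2 ^ r ≤ Nat.card B → Cfsg.signalizerDelta 2 B = ⊥
  · set P := ⨆ i, S.K i with hP
    refine ⟨normalizer (P : Set G), fun hPn => ?_, ?_, fun a ha _ => ?_,
      fun i => (le_iSup S.K i).trans Subgroup.le_normalizer⟩
    · haveI : P.Normal := normalizer_eq_top_iff.1 hPn
      obtain ⟨a, ha, ha1, J, hJ⟩ := hnt
      obtain ⟨-, ⟨i, hai, hJi, -⟩, -⟩ := S.comp a ha ha1 J hJ
      have hK1 : S.K i ≠ ⊥ := fun e => IsComponent.ne_bot hJ.1 (le_bot_iff.1
        ((le_sSup (s := S.blkSet a i) ⟨hJ, hJi⟩).trans ((S.bar_K ha1 i hai).ge.trans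
          (bar_eq_bot_of_le_core (e.le.trans bot_le)).le)))
      rcases Normal.eq_bot_or_eq_top (inferInstance : P.Normal) with hP0 | hPT
      · exact hK1 (le_bot_iff.1 (hP0 ▸ le_iSup S.K i))
      have hKn : (⊤ : Subgroup G) ≤ normalizer (S.K i : Set G) := by
        rw [← hPT]
        refine iSup_le fun j => ?_
        rcases eq_or_ne j i with rfl | hne
        · exact Subgroup.le_normalizer
        · exact (commutator_eq_bot_iff_le_centralizer.1 (S.K_comm hΔ hne)).trans (centralizer_le_normalizer _)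
      haveI : (S.K i).Normal := normalizer_eq_top_iff.1 (top_le_iff.1 hKn)
      rcases Normal.eq_bot_or_eq_top (inferInstance : (S.K i).Normal) with h0 | h1
      · exact hK1 h0
      obtain ⟨f, hf, hf1⟩ := S.exists_ne_one (S.F_le i)
        ((Nat.pow_le_pow_right two_pos (Nat.le_succ r)).trans (S.card_F i))
      have hfc : f ∈ center G := mem_center_iff.2 fun g =>
        (mem_centralizer_iff.1 (S.K_le i (h1 ▸ mem_top g)) f hf).symm
      rcases Normal.eq_bot_or_eq_top (inferInstance : (center G).Normal) with hz | hz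
      · exact hf1 (mem_bot.1 (hz ▸ hfc))
      · obtain ⟨x, y, hxy⟩ := hnc
        exact hxy (mem_center_iff.1 (hz ▸ mem_top y) x)
    · refine invariant_iff.1 fun n hn => ?_
      suffices h : P.map (MulAut.conj n).toMonoidHom ≤ P from fun x hx => h ⟨x, hx, rfl⟩
      rw [hP, Subgroup.map_iSup]
      refine iSup_le fun i => ?_
      obtain ⟨j, hj⟩ := S.map_K_le hn i
      exact hj.trans (le_iSup S.K j)
    · refine fun o ho => ?_
      rw [mem_normalizer_iff_smul, hP]
      exact Cocyclic.smul_iSup_eq _ _ fun i => mem_normalizer_iff_smul.1 (S.core_le_normalizer_K hΔ ha i ho)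
  · obtain ⟨W, hW, hN, hCE, hD, hO⟩ := exists_functor S.r_ne S.elem S.card_A S.balanced
    refine ⟨normalizer (W : Set G), fun hWn => ?_, hN, hO,
      fun i => (S.K_le i).trans (hCE _ (S.F_le i) (S.card_F i))⟩
    haveI : W.Normal := normalizer_eq_top_iff.1 hWn
    rcases Normal.eq_bot_or_eq_top (inferInstance : W.Normal) with h0 | h1
    · exact hΔ fun B hB hBc => le_bot_iff.1 (h0 ▸ hD B hB hBc)
    · have h2 : Odd (Nat.card A) := hW.of_dvd_nat (card_dvd_of_le (h1 ▸ le_top))
      obtain ⟨k, hk⟩ := IsPGroup.iff_card.mp (elemAb_isPGroup S.elem)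
      have hk0 : k ≠ 0 := fun e => by
        have := (Nat.one_lt_two_pow (Nat.succ_ne_zero _)).trans_le S.card_A
        rw [hk, e, pow_zero] at this
        exact lt_irrefl _ this
      rw [hk] at h2
      exact Nat.not_even_iff_odd.2 h2 ((Nat.even_pow' hk0).2 even_two)

end Axes

end Cfsg.Agent.Invol.StrongClosed.OneClass
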