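import Mathlib

/-!
# Maximal factors on a strongly closed abelian 2-subgroup: the combinatorics (for S1169)

An abstract system of "factors" `(D i, E i, H i)` of a finite group `V` of exponent two, permuted transitively by an
irreducible group `X` of automorphisms without subgroup of index two, with the orthogonality axiom "two factors
whose fixed parts meet are orthogonal".  Either all factors are pairwise orthogonal (the block case) or `|V| = 8`.
-/

set_option autoImplicit false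

namespace Cfsg.Agent.Invol.StrongClosed

open Subgroup

universe u v

/-- A system of maximal factors. -/
structure FacSys (V : Type u) [CommGroup V] (ι : Type v) where
  X : Subgroup (MulAut V)
  D : ι → Subgroup V
  E : ι → Subgroup V
  H : ι → Subgroup (MulAut V)
  two : ∀ v : V, v * v = 1
  H_le : ∀ i, H i ≤ X
  D_fix : ∀ i, ∀ h ∈ H i, ∀ x ∈ D i, h x = x
  E_stab : ∀ i, ∀ h ∈ H i, ∀ x ∈ E i, h x ∈ E i
  E_trans : ∀ i, ∀ x ∈ E i, ∀ y ∈ E i, x ≠ 1 → y ≠ 1 → ∃ h ∈ H i, h x = y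
  compl : ∀ i, IsCompl (D i) (E i)
  D_ne : ∀ i, D i ≠ ⊥
  E_ne : ∀ i, E i ≠ ⊥
  act : ∀ x ∈ X, ∀ i, ∃ j, D j = (D i).map x.toMonoidHom ∧ E j = (E i).map x.toMonoidHom
  trans : ∀ i j, ∃ x ∈ X, D j = (D i).map x.toMonoidHom ∧ E j = (E i).map x.toMonoidHom
  ortho : ∀ i j, i ≠ j → D i ⊓ D j ≠ ⊥ → E i ≤ D j ∧ E j ≤ D i
  inj : ∀ i j, D i = D j → E i = E j → i = j
  irr : ∀ W : Subgroup V, (∀ x ∈ X, W.map x.toMonoidHom ≤ W) → W = ⊥ ∨ W = ⊤
  no_two : ∀ Y : Subgroup ↥X, Y.index ≠ 2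

namespace FacSys

variable {V : Type u} [CommGroup V] {ι : Type v} (S : FacSys V ι)
include S

theorem eq_one_of_DE {i : ι} {x : V} (hd : x ∈ S.D i) (he : x ∈ S.E i) : x = 1 :=
  (mem_bot).1 ((S.compl i).disjoint.eq_bot ▸ (⟨hd, he⟩ : x ∈ S.D i ⊓ S.E i))

theorem inv_eq (x : V) : x⁻¹ = x := inv_eq_of_mul_eq_one_right (S.two x)

theorem D_inj {i j : ι} (h : S.D i = S.D j) : i = j := by
  by_contra hij
  obtain ⟨h1, -⟩ := S.ortho i j hij (by rw [← h, inf_idem]; exact S.D_ne i)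
  refine S.E_ne i ((eq_bot_iff_forall _).2 fun x hx => S.eq_one_of_DE (h ▸ h1 hx) hx)

theorem finite_index [Finite V] : Finite ι := Finite.of_injective S.D fun _ _ => S.D_inj

theorem decomp (i : ι) (x : V) : ∃ a ∈ S.D i, ∃ b ∈ S.E i, a * b = x :=
  mem_sup.1 ((S.compl i).sup_eq_top ▸ mem_top x)

theorem prod_inj {P Q : Subgroup V} (h : P ⊓ Q = ⊥) :
    Function.Injective fun x : ↥P × ↥Q => (x.1 : V) * x.2 := by
  intro x y e
  have e1 : (y.1 : V)⁻¹ * x.1 = y.2 * (x.2 : V)⁻¹ := by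
    rw [inv_mul_eq_iff_eq_mul, ← mul_assoc]
    exact eq_mul_inv_iff_mul_eq.2 e
  have e2 : (y.1 : V)⁻¹ * x.1 = 1 :=
    (mem_bot).1 (h ▸ (show (y.1 : V)⁻¹ * x.1 ∈ P ⊓ Q from
      ⟨P.mul_mem (P.inv_mem y.1.2) x.1.2, e1 ▸ Q.mul_mem y.2.2 (Q.inv_mem x.2.2)⟩))
  have e3 := (inv_mul_eq_one.1 e2).symm
  exact Prod.ext (Subtype.ext e3) (Subtype.ext (mul_left_cancel (e.trans (by rw [e3]))))

theorem decomp_unique {i : ι} {a a' b b' : V} (ha : a ∈ S.D i) (ha' : a' ∈ S.D i) (hb : b ∈ S.E i)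
    (hb' : b' ∈ S.E i) (h : a * b = a' * b') : a = a' ∧ b = b' := by
  have h1 : a'⁻¹ * a = b' * b⁻¹ := by
    rw [inv_mul_eq_iff_eq_mul, ← mul_assoc, ← h, mul_inv_cancel_right]
  have h2 : a'⁻¹ * a = 1 :=
    S.eq_one_of_DE (mul_mem (inv_mem ha') ha) (h1 ▸ mul_mem hb' (inv_mem hb))
  have h3 : a = a' := (inv_mul_eq_one.1 h2).symm
  exact ⟨h3, mul_left_cancel (h3 ▸ h)⟩

theorem H_mul {i : ι} {h : MulAut V} (hh : h ∈ S.H i) {a : V} (ha : a ∈ S.D i) (b : V) : h (a * b) = a * h b := by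
  rw [map_mul, S.D_fix i h hh a ha]

theorem card_D (i j : ι) : Nat.card (S.D i) = Nat.card (S.D j) := by
  obtain ⟨x, -, hD, -⟩ := S.trans i j
  rw [hD]
  exact (Nat.card_congr ((S.D i).equivMapOfInjective _ (MulEquiv.injective x)).toEquiv)

theorem card_E (i j : ι) : Nat.card (S.E i) = Nat.card (S.E j) := by
  obtain ⟨x, -, -, hE⟩ := S.trans i j
  rw [hE]
  exact (Nat.card_congr ((S.E i).equivMapOfInjective _ (MulEquiv.injective x)).toEquiv)

theorem card_mul (i : ι) : Nat.card (S.D i) * Nat.card (S.E i) = Nat.card V :=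
  (Subgroup.isComplement'_of_disjoint_and_mul_eq_univ (S.compl i).disjoint
    (by rw [← Subgroup.mul_normal, (S.compl i).sup_eq_top, Subgroup.coe_top])).card_mul

/-- A subgroup of even order. -/
theorem two_dvd [Finite V] {W : Subgroup V} (hW : W ≠ ⊥) : 2 ∣ Nat.card W := by
  obtain ⟨⟨x, hx⟩, hx1⟩ := W.ne_bot_iff_exists_ne_one.1 hW
  have ho : orderOf x = 2 := orderOf_eq_prime (by rw [pow_two, S.two]) fun e => hx1 (Subtype.ext e)
  exact ho ▸ Subgroup.orderOf_dvd_natCard W hx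

/-- The partner relation: distinct factors with meeting fixed parts. -/
def Orth (i j : ι) : Prop := i ≠ j ∧ S.D i ⊓ S.D j ≠ ⊥

theorem Orth.symm {i j : ι} (h : S.Orth i j) : S.Orth j i := ⟨h.1.symm, inf_comm (S.D i) (S.D j) ▸ h.2⟩

theorem Orth.trans {i j k : ι} (h : S.Orth i j) (h' : S.Orth j k) (hik : i ≠ k) : S.Orth i k := by
  refine ⟨hik, fun e => S.E_ne j (le_bot_iff.1 (e ▸ le_inf ?_ ?_))⟩
  · exact (S.ortho i j h.1 h.2).2
  · exact (S.ortho j k h'.1 h'.2).1

theorem orth_map {i j i' j' : ι} (h : S.Orth i j) (x : MulAut V) (hi : S.D i' = (S.D i).map x.toMonoidHom)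
    (hj : S.D j' = (S.D j).map x.toMonoidHom) : S.Orth i' j' := by
  have hx : Function.Injective x.toMonoidHom := MulEquiv.injective x
  refine ⟨fun e => h.1 (S.D_inj (Subgroup.map_injective hx (by rw [← hi, ← hj, e]))), ?_⟩
  rw [hi, hj, ← Subgroup.map_inf _ _ _ hx]
  exact fun e => h.2 ((Subgroup.map_eq_bot_iff_of_injective _ hx).1 e)

/-- The two-element system gives a subgroup of index two. -/
theorem card_ne_two [Finite V] : Nat.card ι ≠ 2 := by
  intro h2
  haveI := S.finite_index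
  obtain ⟨i, j, hij, huniv⟩ := Nat.card_eq_two_iff.1 h2
  have hall : ∀ k, k = i ∨ k = j := fun k => by
    have : k ∈ ({i, j} : Set ι) := huniv ▸ Set.mem_univ k
    simpa using this
  let Y : Subgroup ↥S.X :=
    { carrier := {x | (S.D i).map (x : MulAut V).toMonoidHom = S.D i}
      one_mem' := Subgroup.map_id _
      mul_mem' := fun {x y} hx hy => by
        show (S.D i).map (((x : MulAut V) * (y : MulAut V))).toMonoidHom = _
        rw [show ((x : MulAut V) * (y : MulAut V)).toMonoidHom =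
          (x : MulAut V).toMonoidHom.comp (y : MulAut V).toMonoidHom from rfl, ← Subgroup.map_map, hy, hx]
      inv_mem' := fun {x} hx => by
        show (S.D i).map ((x : MulAut V)⁻¹).toMonoidHom = _
        conv_lhs => rw [← hx, Subgroup.map_map]
        rw [show ((x : MulAut V)⁻¹).toMonoidHom.comp (x : MulAut V).toMonoidHom = MonoidHom.id V from
          MonoidHom.ext fun v => MulEquiv.symm_apply_apply _ v, Subgroup.map_id] }
  refine S.no_two Y (Subgroup.index_eq_two_iff.2 ?_)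
  obtain ⟨x, hx, hD, -⟩ := S.trans j i
  have hinj : ∀ y : MulAut V, Function.Injective (Subgroup.map y.toMonoidHom) := fun y =>
    Subgroup.map_injective (MulEquiv.injective y)
  refine ⟨⟨x, hx⟩, fun y => ?_⟩
  have hcomp : (S.D i).map ((y : MulAut V) * x).toMonoidHom =
      ((S.D i).map x.toMonoidHom).map (y : MulAut V).toMonoidHom := by
      rw [Subgroup.map_map]; rfl
  obtain ⟨k, hk, -⟩ := S.act x hx i
  have hxi : (S.D i).map x.toMonoidHom = S.D j := by
    rcases hall k with rfl | rfl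
    · exact absurd (S.D_inj (hinj x (hk.symm.trans hD))) hij
    · exact hk.symm
  show Xor (((S.D i).map ((y : MulAut V) * x).toMonoidHom) = S.D i) ((S.D i).map (y : MulAut V).toMonoidHom = S.D i)
  rw [hcomp, hxi]
  obtain ⟨a, ha, -⟩ := S.act (y : MulAut V) y.2 i
  obtain ⟨b, hb, -⟩ := S.act (y : MulAut V) y.2 j
  rw [← ha, ← hb]
  rcases hall a with rfl | rfl <;> rcases hall b with rfl | rfl
  · exact absurd (S.D_inj (hinj _ (ha.symm.trans hb))) hij
  · exact Or.inr ⟨rfl, fun e => hij (S.D_inj e.symm)⟩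
  · exact Or.inl ⟨rfl, fun e => hij (S.D_inj e.symm)⟩
  · exact absurd (S.D_inj (hinj _ (ha.symm.trans hb))) hij

/-- The block case: pairwise orthogonal factors generate. -/
theorem blocks [Finite V] [Nonempty ι] (h : ∀ i j, i ≠ j → S.Orth i j) :
    (∀ i j, i ≠ j → S.E i ≤ S.D j) ∧ ⨆ i, S.E i = ⊤ ∧ 3 ≤ Nat.card ι := by
  haveI := S.finite_index
  obtain ⟨i⟩ := ‹Nonempty ι›
  refine ⟨fun i j hij => (S.ortho i j hij (h i j hij).2).1, ?_, ?_⟩
  · refine (S.irr _ fun x hx => ?_).resolve_left fun e => S.E_ne i (le_bot_iff.1 (e ▸ le_iSup S.E i))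
    rw [Subgroup.map_iSup]
    refine iSup_le fun k => ?_
    obtain ⟨l, -, hl⟩ := S.act x hx k
    exact hl ▸ le_iSup S.E l
  · by_contra hc
    rcases Nat.lt_or_ge (Nat.card ι) 2 with h1 | h1
    · have hs : Subsingleton ι := Finite.card_le_one_iff_subsingleton.1 (by omega)
      rcases S.irr (S.D i) fun x hx => by
        obtain ⟨l, hl, -⟩ := S.act x hx i
        rw [← hl, Subsingleton.elim l i] with e | e
      · exact S.D_ne i e
      · exact S.E_ne i ((eq_bot_iff_forall _).2 fun x hx => S.eq_one_of_DE (e ▸ mem_top x) hx)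
    · exact S.card_ne_two (by omega)

/-- The owner of a covered element is unique if fixed parts are disjoint. -/
theorem owner (hdis : ∀ i j, i ≠ j → S.D i ⊓ S.D j = ⊥) {i j : ι} {x : V} (hx : x ≠ 1) (hi : x ∈ S.D i)
    (hj : x ∈ S.D j) : i = j :=
  by_contra fun h => hx ((mem_bot).1 (hdis i j h ▸ ⟨hi, hj⟩))

theorem card_punctured [Finite V] (W : Subgroup V) [Fintype V] [DecidableEq V] [DecidablePred (· ∈ W)] :
    (Finset.univ.filter fun x : V => x ∈ W ∧ x ≠ 1).card = Nat.card W - 1 := by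
  rw [Nat.card_eq_fintype_card, Fintype.card_subtype]
  rw [← Finset.card_erase_of_mem (a := (1 : V)) (Finset.mem_filter.2 ⟨Finset.mem_univ _, W.one_mem⟩)]
  congr 1
  ext x
  simp [and_comm]

/-- No partners, unless all are partners. -/
theorem orth_cases [Finite V] : (∀ i j, i ≠ j → S.Orth i j) ∨ ∀ i j, ¬ S.Orth i j := by
  classical
  by_contra h
  push Not at h
  obtain ⟨⟨p, q, hpq, hnot⟩, ⟨r, r', hrr⟩⟩ := h
  haveI := S.finite_index
  haveI := Fintype.ofFinite ι
  haveI := Fintype.ofFinite V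
  -- everybody has a partner and a non-partner
  have hex : ∀ i, ∃ i', S.Orth i i' := fun i => by
    obtain ⟨x, hx, hD, -⟩ := S.trans r i
    obtain ⟨i', hi', -⟩ := S.act x hx r'
    exact ⟨i', S.orth_map hrr x hD hi'⟩
  have hnon : ∀ i, ∃ j, i ≠ j ∧ ¬ S.Orth i j := fun i => by
    by_contra h
    push Not at h
    by_cases hip : i = p
    · exact hnot (hip ▸ h q (hip ▸ hpq))
    by_cases hiq : i = q
    · exact hnot (Orth.symm S (hiq ▸ (h p (hiq ▸ hpq.symm))))
    exact hnot (Orth.trans S (Orth.symm S (h p hip)) (h q hiq) hpq)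
  -- partners are swapped
  have hswap : ∀ i i', S.Orth i i' → S.E i' = S.D i ∧ Nat.card (S.D i) = Nat.card (S.E i) := by
    intro i i' hii
    obtain ⟨j, hij, hj⟩ := hnon i
    have hdis : S.D i ⊓ S.D j = ⊥ := not_not.1 fun e => hj ⟨hij, e⟩
    have hle := (S.ortho i i' hii.1 hii.2).2
    have h1 : Nat.card (S.E i) ≤ Nat.card (S.D i) := S.card_E i' i ▸ Nat.le_of_dvd Nat.card_pos (card_dvd_of_le hle)
    have h2 : Nat.card (S.D i) * Nat.card (S.D i) ≤ Nat.card V := by
      conv_lhs => arg 2; rw [S.card_D i j]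
      rw [← Nat.card_prod]
      exact Nat.card_le_card_of_injective _ (S.prod_inj hdis)
    have h3 : Nat.card (S.D i) ≤ Nat.card (S.E i) :=
      Nat.le_of_mul_le_mul_left (S.card_mul i ▸ h2) Nat.card_pos
    exact ⟨eq_of_le_of_card_ge hle (by rw [S.card_E i' i]; omega), by omega⟩
  choose π hπ using hex
  have huniq : ∀ i j, S.Orth i j → j = π i := fun i j hj => S.D_inj (by
    rw [← (hswap j i (Orth.symm S hj)).1, ← (hswap (π i) i (Orth.symm S (hπ i))).1])
  have hinv : ∀ i, π (π i) = i := fun i => (huniq _ _ (Orth.symm S (hπ i))).symm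
  have hdis : ∀ i j, i ≠ j → S.D i ⊓ S.D j = ⊥ := by
    intro i j hij
    by_contra e
    have h1 := huniq i j ⟨hij, e⟩
    subst h1
    refine e ((eq_bot_iff_forall _).2 fun x hx => S.eq_one_of_DE hx.1 ?_)
    rw [(hswap (π i) i (Orth.symm S (hπ i))).1]; exact hx.2
  -- every element is covered
  have hcov : ∀ v : V, v ≠ 1 → ∃ k, v ∈ S.D k := by
    intro v hv
    obtain ⟨i⟩ : Nonempty ι := ⟨p⟩
    obtain ⟨a, ha, b, hb, rfl⟩ := S.decomp i v
    have hEi : S.E i = S.D (π i) := (hswap (π i) i (Orth.symm S (hπ i))).1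
    have hDi : S.D i = S.E (π i) := (hswap i (π i) (hπ i)).1.symm
    by_cases ha1 : a = 1
    · exact ⟨π i, by rw [ha1, one_mul, ← hEi]; exact hb⟩
    by_cases hb1 : b = 1
    · exact ⟨i, by rw [hb1, mul_one]; exact ha⟩
    obtain ⟨j, hij, hj⟩ := hnon i
    obtain ⟨⟨x, hx⟩, hx1⟩ := (S.D j).ne_bot_iff_exists_ne_one.1 (S.D_ne j)
    have hx1' : x ≠ 1 := fun e => hx1 (Subtype.ext e)
    obtain ⟨a', ha', b', hb', rfl⟩ := S.decomp i x
    have hb'1 : b' ≠ 1 := fun e => hij (S.owner hdis hx1' (by rw [e, mul_one]; exact ha') hx)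
    have ha'1 : a' ≠ 1 := fun e => hj (S.owner hdis hx1' (by rw [e, one_mul, ← hEi]; exact hb') hx ▸ hπ i)
    obtain ⟨h1, hh1, e1⟩ := S.E_trans i b' hb' b hb hb'1 hb1
    obtain ⟨h2, hh2, e2⟩ := S.E_trans (π i) a' (hDi ▸ ha') a (hDi ▸ ha) ha'1 ha1
    obtain ⟨k, hk, -⟩ := S.act (h2 * h1) (mul_mem (S.H_le _ hh2) (S.H_le _ hh1)) j
    refine ⟨k, hk ▸ ⟨a' * b', hx, ?_⟩⟩
    show h2 (h1 (a' * b')) = a * b
    rw [S.H_mul hh1 ha', e1, map_mul, e2, S.D_fix (π i) h2 hh2 b (hEi ▸ hb)]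
  -- count
  have hN : Nat.card V - 1 = Fintype.card ι * (Nat.card (S.D p) - 1) := by
    rw [Nat.card_eq_fintype_card]
    conv_lhs => rw [← Finset.card_univ, ← Finset.card_erase_of_mem (Finset.mem_univ (1 : V))]
    rw [show (Finset.univ.erase (1 : V)) = Finset.univ.biUnion fun k => Finset.univ.filter fun x => x ∈ S.D k ∧ x ≠ 1
      from ?_, Finset.card_biUnion, Finset.sum_congr rfl fun k _ => (S.card_punctured (S.D k)).trans
        (by rw [S.card_D k p]), Finset.sum_const, smul_eq_mul, Finset.card_univ]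
    · intro i _ j _ hij
      rw [Function.onFun, Finset.disjoint_left]
      intro x hx hx'
      simp only [Finset.mem_filter] at hx hx'
      exact hij (S.owner hdis hx.2.2 hx.2.1 hx'.2.1)
    · ext x
      simp only [Finset.mem_erase, Finset.mem_univ, and_true, Finset.mem_biUnion, Finset.mem_filter, true_and]
      exact ⟨fun hx => let ⟨k, hk⟩ := hcov x hx; ⟨k, hk, hx⟩, fun ⟨_, _, hx⟩ => hx⟩
  have hd : 2 ∣ Nat.card (S.D p) := S.two_dvd (S.D_ne p)
  have hev : Even (Fintype.card ι) := by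
    let σ : Equiv.Perm ι := ⟨π, π, hinv, hinv⟩
    have hdvd : 2 ∣ (σ.support).card := by
      rw [← Equiv.Perm.sum_cycleType]
      refine Multiset.dvd_sum fun n hn => ?_
      have := Equiv.Perm.dvd_of_mem_cycleType hn
      have h2 : orderOf σ ∣ 2 := orderOf_dvd_of_pow_eq_one (Equiv.ext fun i => by
        rw [pow_two]; exact hinv i)
      have h3 := Equiv.Perm.two_le_of_mem_cycleType hn
      have := Nat.le_of_dvd two_pos (this.trans h2)
      omega
    rw [show σ.support = Finset.univ from Finset.eq_univ_of_forall fun i =>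
      Equiv.Perm.mem_support.2 fun e => (hπ i).1 e.symm, Finset.card_univ] at hdvd
    exact even_iff_two_dvd.2 hdvd
  have hsq : Nat.card V = Nat.card (S.D p) * Nat.card (S.D p) := by
    rw [← S.card_mul p, (hswap p (π p) (hπ p)).2]
  have hpos : 0 < Nat.card (S.D p) := Nat.card_pos
  obtain ⟨m, hm⟩ := hd
  have key : Fintype.card ι = Nat.card (S.D p) + 1 := by
    refine Nat.eq_of_mul_eq_mul_right (show 0 < Nat.card (S.D p) - 1 by omega) ?_
    rw [← hN, hsq]
    obtain ⟨k, hk⟩ := Nat.exists_eq_add_of_le hpos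
    rw [hk]
    simp only [Nat.succ_eq_add_one, zero_add, Nat.add_sub_cancel_left]
    rw [show (1 + k) * (1 + k) = (1 + k + 1) * k + 1 by ring, Nat.add_sub_cancel]
  rw [key, Nat.even_add_one, Nat.not_even_iff_odd, hm] at hev
  exact absurd hev (by simp [parity_simps])

end FacSys

end Cfsg.Agent.Invol.StrongClosed
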